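import Cfsg.Agent.FusionModel.ControlCenter
import Cfsg.Agent.LocalP.ThompsonWCMain
import Cfsg.Agent.FusionSys.LocalSystems

/-!
The normalizer of the Thompson subgroup (abelian version) controls the centre of a saturated fusion
system at an odd prime.
-/

set_option autoImplicit false

open Cfsg Cfsg.FusionSystem Cfsg.Agent.FusionSys Cfsg.Agent.FusionModel

namespace Cfsg.Agent.FusionBatch.ThompsonCenter

universe u

/-- The functor given by the subgroup generated by the abelian subgroups of largest order. -/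
def jA (Q : Type u) [Group Q] : Subgroup Q := thompsonSubgroupA Q

theorem jA_natural (p : ℕ) : Natural (fun Q [Group Q] => jA.{u} Q) p :=
  fun _ _ _ _ _ _ φ => Modules.map_thompsonSubgroupA φ

theorem center_le_jA (Q : Type u) [Group Q] [Finite Q] : Subgroup.center Q ≤ jA Q := by
  intro z hz
  rw [jA, ← Modules.thompsonSubgroupAOf_top]
  exact LocalP.center_le_thompsonA ⊤
    ⟨Subgroup.mem_top z, fun g _ => Subgroup.mem_center_iff.1 hz g⟩

theorem centerCondition_jA {p : ℕ} [Fact p.Prime] (hp : p ≠ 2) :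
    CenterCondition (fun Q [Group Q] => jA.{u} Q) p := by
  intro G _ _ P
  show pCore p G ⊓ _ = pCore p G ⊓ (Subgroup.center ↥(Subgroup.normalizer
    ((thompsonSubgroupAOf (P : Subgroup G)) : Set G))).map _
  set J := thompsonSubgroupAOf (P : Subgroup G)
  have hOP : pCore p G ≤ (P : Subgroup G) := Cores.pCore_le_sylow P
  refine le_antisymm ?_ ?_
  · rintro z ⟨hzO, hz⟩
    have hzN : z ∈ Subgroup.normalizer (J : Set G) :=
      Modules.normalizer_le_normalizer_thompsonSubgroupAOf _ (Subgroup.le_normalizer (hOP hzO))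
    exact ⟨hzO, ⟨z, hzN⟩, Subgroup.mem_center_iff.2 fun g =>
      Subtype.ext (Subgroup.mem_center_iff.1 hz g), rfl⟩
  · rintro z ⟨hzO, ⟨⟨y, hy⟩, hyc, rfl⟩⟩
    refine ⟨hzO, Subgroup.mem_center_iff.2 fun g => ?_⟩
    have h := LocalP.wc_thompson_odd hp P (hOP hzO)
      (Subgroup.mem_centralizer_iff.2 fun n hn =>
        congrArg Subtype.val (Subgroup.mem_center_iff.1 hyc ⟨n, hn⟩)) g
      (hOP ((inferInstance : (pCore p G).Normal).conj_mem _ hzO g))
    exact mul_inv_eq_iff_eq_mul.1 h

variable {Ω : Type u} [Group Ω] {S : Subgroup Ω}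

theorem normalizerIn_thompsonAOf [Finite S] {p : ℕ} (hS : IsPGroup p S) :
    normalizerIn S (thompsonSubgroupAOf S) = S :=
  normalizerIn_wOf (W := fun Q [Group Q] => jA.{u} Q) (jA_natural p) hS

/-- `Z(F) = Z(N_F(J(S)))` for odd `p`. -/
theorem center_normalizer_eq [Finite S] {p : ℕ} [Fact p.Prime] (hp : p ≠ 2) (hS : IsPGroup p S)
    {F : FusionSystem S} (hF : F.IsSaturated p)
    (N : FusionSystem (normalizerIn S (thompsonSubgroupAOf S)))
    (hN : F.IsNormalizerSystem (thompsonSubgroupAOf S) N) : N.center = F.center := by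
  have hW : Natural (fun Q [Group Q] => jA.{u} Q) p := jA_natural p
  have hfn : F.IsFullyNormalized (thompsonSubgroupAOf S) := fullyNormalized_wOf hW hS F
  have hnS := normalizerIn_thompsonAOf (S := S) hS
  have hNp : IsPGroup p ↥(normalizerIn S (thompsonSubgroupAOf S)) := hS.to_le inf_le_left
  have hNsat := normalizerSystem_saturated hS hF hfn hN
  ext x
  rw [mem_center_iff_fixes hNp hNsat, mem_center_iff_fixes hS hF]
  constructor
  · rintro ⟨hx, h⟩
    refine ⟨hx.1, fixes_of_normalizer (W := fun Q [Group Q] => jA.{u} Q)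
      (fun Q _ _ _ => center_le_jA Q) hW (centerCondition_jA hp) _ _ hS F hF rfl rfl x hx.1
      fun P φ hφ => h P φ ?_⟩
    rw [hN P]
    exact hφ
  · rintro ⟨hx, h⟩
    refine ⟨hnS.ge hx, fun P φ hφ => h P φ ?_⟩
    rw [hN P] at hφ
    exact hφ.1

end Cfsg.Agent.FusionBatch.ThompsonCenter
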