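import Cfsg.Agent.FusionAux.SeriesStab
import Mathlib.Data.ZMod.Basic

/-!
Finite abelian `p`-groups with pairwise distinct invariants: the layers of the socle given by
divisibility are of order at most `p`.
-/

set_option autoImplicit false
set_option maxHeartbeats 400000

namespace Cfsg.Agent.FusionBatch.AbelianLayers

/-- `x` is a `p^k`-th power. -/
def Div {M : Type*} [Monoid M] (p k : ℕ) (x : M) : Prop := ∃ y : M, y ^ p ^ k = x

theorem div_map {M N F : Type*} [Monoid M] [Monoid N] [FunLike F M N] [MonoidHomClass F M N]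
    (f : F) {p k : ℕ} {x : M} (h : Div p k x) : Div p k (f x) :=
  h.imp' f fun y hy => by rw [← map_pow, hy]

theorem div_succ {M : Type*} [Monoid M] {p k : ℕ} {x : M} (h : Div p (k + 1) x) : Div p k x := by
  obtain ⟨y, rfl⟩ := h
  exact ⟨y ^ p, by rw [← pow_mul, ← pow_succ']⟩

theorem exists_mul_pow {p b : ℕ} [hp : Fact p.Prime] {w : ZMod (p ^ (b + 1))} (h : (p : ZMod (p ^ (b + 1))) * w = 0) :
    ∃ c : ℕ, w = (c : ZMod (p ^ (b + 1))) * (p : ZMod (p ^ (b + 1))) ^ b := by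
  haveI : NeZero (p ^ (b + 1)) := ⟨pow_ne_zero _ hp.out.ne_zero⟩
  rw [← ZMod.natCast_zmod_val w, ← Nat.cast_mul, ZMod.natCast_eq_zero_iff] at h
  obtain ⟨c, hc⟩ := Nat.dvd_of_mul_dvd_mul_left hp.out.pos
    (show p * p ^ b ∣ p * w.val by rw [← pow_succ']; exact h)
  exact ⟨c, by rw [← ZMod.natCast_zmod_val w, hc, Nat.cast_mul, Nat.cast_pow, mul_comm]⟩

theorem coord_div {p b k : ℕ} [hp : Fact p.Prime] {w : ZMod (p ^ b)} (h : (p : ZMod (p ^ b)) * w = 0)
    (hk : k < b) : ∃ y, w = (p : ZMod (p ^ b)) ^ k * y := by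
  obtain ⟨b, rfl⟩ : ∃ c, b = c + 1 := ⟨b - 1, by omega⟩
  obtain ⟨c, rfl⟩ := exists_mul_pow h
  exact ⟨c * (p : ZMod (p ^ (b + 1))) ^ (b - k), by
    rw [mul_left_comm, ← pow_add, show k + (b - k) = b by omega]⟩

theorem coord_zero {p b k : ℕ} {w : ZMod (p ^ b)} (h : ∃ y, w = (p : ZMod (p ^ b)) ^ k * y)
    (hk : b ≤ k) : w = 0 := by
  obtain ⟨y, rfl⟩ := h
  rw [show k = b + (k - b) by omega, pow_add, ← Nat.cast_pow, ZMod.natCast_self, zero_mul, zero_mul]

theorem div_iff {p k n : ℕ} {a : Fin n → ℕ} (x : Multiplicative ((i : Fin n) → ZMod (p ^ a i))) :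
    Div p k x ↔ ∀ i, ∃ y, x.toAdd i = (p : ZMod (p ^ a i)) ^ k * y := by
  constructor
  · rintro ⟨y, rfl⟩ i
    exact ⟨y.toAdd i, by rw [toAdd_pow, Pi.smul_apply, nsmul_eq_mul, Nat.cast_pow]⟩
  · intro h
    choose y hy using h
    refine ⟨Multiplicative.ofAdd y, Multiplicative.toAdd.injective (funext fun i => ?_)⟩
    rw [toAdd_pow, toAdd_ofAdd, Pi.smul_apply, nsmul_eq_mul, Nat.cast_pow, hy i]

variable {S : Type*} [Group S] {p : ℕ} [hp : Fact p.Prime] {n : ℕ} {a : Fin n → ℕ}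

/-- In each layer there is at most a cyclic group of order `p`. -/
theorem layer_step (ha : Function.Injective a) (e : S ≃* Multiplicative ((i : Fin n) → ZMod (p ^ a i)))
    {k : ℕ} {x z : S} (hx : x ^ p = 1) (hxk : Div p k x) (hx' : ¬ Div p (k + 1) x) (hz : z ^ p = 1)
    (hzk : Div p k z) : ∃ m : ℕ, Div p (k + 1) (z * x ^ m) := by
  have hnd : ¬ ∀ i, ∃ y, (e x).toAdd i = (p : ZMod (p ^ a i)) ^ (k + 1) * y := fun h => by
    have h2 := div_map e.symm ((div_iff _).2 h)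
    rw [MulEquiv.symm_apply_apply] at h2
    exact hx' h2
  push Not at hnd
  obtain ⟨i, hi⟩ := hnd
  have hor : ∀ w : S, w ^ p = 1 → ∀ j, (p : ZMod (p ^ a j)) * (e w).toAdd j = 0 := by
    intro w hw j
    rw [← nsmul_eq_mul, ← Pi.smul_apply, ← toAdd_pow, ← map_pow, hw, map_one]
    rfl
  have hxi := ((div_iff _).1 (div_map e hxk)) i
  have hzi := ((div_iff _).1 (div_map e hzk)) i
  have hai : a i = k + 1 := by
    rcases lt_trichotomy (a i) (k + 1) with h | h | h
    · exact absurd (coord_zero hxi (by omega)) (fun h0 => hi 0 (by rw [h0, mul_zero]))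
    · exact h
    · obtain ⟨y, hy⟩ := coord_div (hor x hx i) h
      exact absurd hy (hi y)
  obtain ⟨yx, hyx⟩ := hxi
  obtain ⟨yz, hyz⟩ := hzi
  haveI : NeZero (p ^ a i) := ⟨pow_ne_zero _ hp.out.ne_zero⟩
  have hc : ((yx.val : ℕ) : ZMod p) ≠ 0 := by
    intro h0
    obtain ⟨d, hd⟩ := (ZMod.natCast_eq_zero_iff _ _).1 h0
    refine hi d ?_
    rw [hyx, ← ZMod.natCast_zmod_val yx, hd, Nat.cast_mul, pow_succ, mul_assoc]
  set m := (-((yz.val : ℕ) : ZMod p) * ((yx.val : ℕ) : ZMod p)⁻¹).val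
  have hdvd : p ∣ yz.val + m * yx.val := by
    rw [← ZMod.natCast_eq_zero_iff, Nat.cast_add, Nat.cast_mul, ZMod.natCast_zmod_val,
      inv_mul_cancel_right₀ hc, add_neg_cancel]
  obtain ⟨d, hd⟩ := hdvd
  refine ⟨m, ?_⟩
  have h2 : Div p (k + 1) (e (z * x ^ m)) := by
    rw [div_iff]
    intro j
    have hzero : (p : ZMod (p ^ a j)) * (e (z * x ^ m)).toAdd j = 0 := by
      rw [map_mul, map_pow, toAdd_mul, toAdd_pow, Pi.add_apply, Pi.smul_apply, mul_add,
        hor z hz j, mul_smul_comm, hor x hx j, smul_zero, add_zero]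
    by_cases hj : k + 1 < a j
    · exact coord_div hzero hj
    · refine ⟨0, ?_⟩
      rw [map_mul, map_pow, toAdd_mul, toAdd_pow, Pi.add_apply, Pi.smul_apply, mul_zero]
      by_cases hji : j = i
      · subst hji
        rw [hyx, hyz, nsmul_eq_mul]
        conv_lhs => rw [← ZMod.natCast_zmod_val yz, ← ZMod.natCast_zmod_val yx]
        rw [mul_left_comm, ← mul_add, ← Nat.cast_mul, ← Nat.cast_add, hd, Nat.cast_mul, ← mul_assoc,
          ← pow_succ, ← Nat.cast_pow, (ZMod.natCast_eq_zero_iff _ _).2 (hai ▸ dvd_rfl), zero_mul]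
      · have : a j ≤ k := by
          have h3 : a j ≠ a i := fun h => hji (ha h)
          omega
        rw [coord_zero (((div_iff _).1 (div_map e hxk)) j) this,
          coord_zero (((div_iff _).1 (div_map e hzk)) j) this, smul_zero, add_zero]
  have h3 := div_map e.symm h2
  rwa [MulEquiv.symm_apply_apply] at h3

theorem div_zero_of_large (e : S ≃* Multiplicative ((i : Fin n) → ZMod (p ^ a i))) {k : ℕ}
    (hk : ∀ i, a i ≤ k) {x : S} (hx : Div p k x) : x = 1 := by
  refine e.injective ?_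
  rw [map_one]
  refine Multiplicative.toAdd.injective (funext fun i => ?_)
  exact coord_zero (((div_iff _).1 (div_map e hx)) i) (hk i)

end Cfsg.Agent.FusionBatch.AbelianLayers
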