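import Cfsg.Agent.FusionAux.NPCZJ
import Cfsg.Agent.FusionAux.NPCInstances
import Cfsg.Agent.FusionSub.Solvable

/-!
For odd `p` a saturated system is inner as soon as all normalizer systems of centric subgroups normal
in `S` are inner.
-/

set_option autoImplicit false
set_option maxHeartbeats 400000

open Cfsg Cfsg.FusionSystem Cfsg.Agent.FusionSys Cfsg.Agent.FusionModel Cfsg.Agent.FusionAux
  Cfsg.Agent.FusionAux.NPC

namespace Cfsg.Agent.FusionBatch.ConstrainedWitness

universe u

variable {Ω : Type u} [Group Ω] {S : Subgroup Ω} {p : ℕ}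

/-- The automizers of the centric normal subgroups of `S` give `p`-elements. -/
def LocalP (F : FusionSystem S) (p : ℕ) : Prop :=
  ∀ Q : Subgroup Ω, Q ≤ S → S ≤ Subgroup.normalizer (Q : Set Ω) → centralizerIn S Q ≤ Q →
    NormP F p Q

theorem localP_of_le {F E : FusionSystem S} (hEF : ∀ P, E.Hom P ⊆ F.Hom P) (h : LocalP F p) :
    LocalP E p := fun Q hQ hn hc => normP_of_le le_rfl hEF (h Q hQ hn hc)

theorem le_normalizer_centralizerIn {U : Subgroup Ω} (hn : S ≤ Subgroup.normalizer (U : Set Ω)) :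
    S ≤ Subgroup.normalizer (centralizerIn S U : Set Ω) := by
  have key : ∀ g ∈ S, ∀ c ∈ centralizerIn S U, g * c * g⁻¹ ∈ centralizerIn S U := by
    intro g hg c hc
    refine ⟨S.mul_mem (S.mul_mem hg hc.1) (S.inv_mem hg), fun r hr => ?_⟩
    have h := hc.2 _ ((Subgroup.mem_normalizer_iff.1 (inv_mem (hn hg)) r).1 hr)
    simp only [inv_inv] at h
    calc r * (g * c * g⁻¹) = g * (g⁻¹ * r * g * c) * g⁻¹ := by simp [mul_assoc]
      _ = _ := by rw [h]; simp [mul_assoc]
  exact fun g hg => Subgroup.mem_normalizer_iff.2 fun c => ⟨key g hg c, fun hc => by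
    simpa [mul_assoc] using key g⁻¹ (S.inv_mem hg) _ hc⟩

/-- `Q` is normal in its normalizer system. -/
theorem normSys_isNormal {Ω : Type u} [Group Ω] {S : Subgroup Ω} [Finite S] (F : FusionSystem S)
    {Q : Subgroup Ω} (hQ : Q ≤ S) : (normSys F Q hQ).IsNormal Q := by
  have hQT : Q ≤ normalizerIn S Q := le_normalizerIn hQ
  have : Finite Q := finite_of_le ‹_› hQ
  refine ⟨hQT, fun P φ hφ => ?_⟩
  obtain ⟨-, hP, hφN, ψ, hψ, hψP, hψQ⟩ := id hφ
  refine ⟨ψ, ⟨hψ, sup_le hP hQT, fun w => ?_, restr (sup_le le_rfl le_sup_right) ψ,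
    restr_mem F _ hψ, fun w => rfl, ?_⟩, hψP, hψQ⟩
  · have := ext_image_le hψQ (R := normalizerIn S Q) (fun w => (hψP w).symm ▸ hφN w) w
    rwa [sup_eq_left.2 hQT] at this
  · exact map_subgroupOf_eq_of_mem le_sup_right (F.injective_of_mem (restr_mem F _ hψ))
      fun w hw => apply_mem_of_map_eq hψQ (x := Subgroup.inclusion _ w) hw

variable [Finite S] [Fact p.Prime]

/-- The automizer of an abelian subgroup normal in `S` is induced by `S`. -/
theorem aut_inner_of_localP (hS : IsPGroup p S) {F : FusionSystem S} (hF : F.IsSaturated p)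
    (h : LocalP F p) {U : Subgroup Ω} (hU : U ≤ S) (hn : S ≤ Subgroup.normalizer (U : Set Ω))
    (hab : IsMulCommutative U) {α : MulAut U} (hα : α ∈ F.autGroup U) :
    ∃ g ∈ S, ∀ x : U, ((α x : U) : Ω) = g * x * g⁻¹ := by
  have hUfin : Finite U := finite_of_le ‹_› hU
  have hfn := FusionCrit.isFullyNormalized_of_normal F hU hn
  have hp : IsPGroup p (F.autGroup U) := by
    rintro ⟨β, hβ⟩
    set φ : U →* Ω := U.subtype.comp β.toMonoidHom with hφdef
    have hφ : φ ∈ F.Hom U := autGroup_mem_hom F hU hβ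
    have hr : φ.range = U := by
      ext y
      constructor
      · rintro ⟨x, rfl⟩
        exact (β x).2
      · intro hy
        exact ⟨β.symm ⟨y, hy⟩, congrArg Subtype.val (β.apply_symm_apply ⟨y, hy⟩)⟩
    obtain ⟨ψ, hψ, hψe⟩ := (saturated_receptive_of_fullyNormalized hS hF hfn).2 U φ hφ hr
    set C := centralizerIn S U with hC
    have hUC : U ≤ C := fun x hx => ⟨hU hx, fun y hy =>
      congrArg Subtype.val (hab.is_comm.comm (⟨y, hy⟩ : U) ⟨x, hx⟩)⟩
    have hCE : C ≤ extender S U φ := centralizerIn_le_extender _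
    have : Finite C := finite_of_le ‹_› (centralizerIn_le U)
    have hmem := restr_mem F hCE hψ
    have hrC : (restr hCE ψ).range = C := by
      refine range_eq_of_image_le (F.injective_of_mem hmem) ?_ le_rfl
      rintro _ ⟨c, rfl⟩
      refine ⟨map_mem_S F hmem c, fun y hy => ?_⟩
      obtain ⟨x, rfl⟩ : y ∈ φ.range := hr.ge hy
      show φ x * restr hCE ψ c = restr hCE ψ c * φ x
      rw [← hψe x x.2 (hCE (hUC x.2)), restr_apply, ← map_mul, ← map_mul]
      exact congrArg ψ (Subtype.ext (c.2.2 x x.2))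
    set γ := toIso F hmem hrC with hγ
    have hγe : ∀ x : U, ((γ ⟨x, hUC x.2⟩ : C) : Ω) = β x := by
      intro x
      rw [hγ, toIso_coe, restr_apply]
      exact hψe x x.2 (hCE (hUC x.2))
    have hCc : centralizerIn S C ≤ C := fun c hc => ⟨hc.1, fun y hy => hc.2 y (hUC hy)⟩
    obtain ⟨k, hk⟩ := h C (centralizerIn_le U) (le_normalizer_centralizerIn hn) hCc C
      (le_normalizerIn (centralizerIn_le U)) le_rfl γ (toIso_mem_autGroup F hmem hrC)
      fun x _ => (γ x).2
    refine ⟨k, Subtype.ext (MulEquiv.ext fun x => Subtype.ext ?_)⟩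
    have key : ∀ m : ℕ, ∀ x : U, (((γ ^ m : MulAut C) ⟨x, hUC x.2⟩ : C) : Ω) = (β ^ m) x := by
      intro m
      induction m with
      | zero => intro x; rfl
      | succ m ih =>
        intro x
        rw [pow_succ, pow_succ, MulAut.mul_apply, MulAut.mul_apply,
          show γ ⟨x, hUC x.2⟩ = ⟨β x, hUC (β x).2⟩ from Subtype.ext (hγe x), ih]
    have := key (p ^ k) x
    rw [hk] at this
    exact this.symm
  obtain ⟨hle, T, hT⟩ := (saturated_fullyNormalized hS hF hfn).2
  have htop : (T : Subgroup (F.autGroup U)) = ⊤ := (T.3 (hp.to_subgroup ⊤) le_top).symm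
  have hm : (⟨α, hα⟩ : F.autGroup U) ∈ (autInducedBy S U).subgroupOf (F.autGroup U) :=
    hT ▸ htop.symm ▸ trivial
  obtain ⟨g, hg, hge⟩ := mem_autInducedBy.1 hm
  exact ⟨g, hg, hge⟩

/-- A normal abelian subgroup meets `Z(S)` in a central subgroup, here recorded as normal. -/
theorem isNormal_inf_zOf (hS : IsPGroup p S) {F : FusionSystem S} (hF : F.IsSaturated p)
    (h : LocalP F p) {U : Subgroup Ω} (hU : F.IsNormal U) (hab : IsMulCommutative U) :
    F.IsNormal (U ⊓ zOf S) := by
  refine ⟨inf_le_left.trans hU.1, fun P φ hφ => ?_⟩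
  obtain ⟨ψ, hψ, hψP, hψU⟩ := hU.2 P φ hφ
  have : Finite U := finite_of_le ‹_› hU.1
  have : Finite ↥(U ⊓ zOf S) := finite_of_le ‹_› (inf_le_left.trans hU.1)
  have hle : P ⊔ (U ⊓ zOf S) ≤ P ⊔ U := sup_le_sup_left inf_le_left _
  refine ⟨restr hle ψ, restr_mem F hle hψ, fun x => ?_, ?_⟩
  · exact hψP x
  refine map_subgroupOf_eq_of_mem le_sup_right (F.injective_of_mem (restr_mem F hle hψ)) ?_
  intro x hx
  have hr : (restr (le_sup_right : U ≤ P ⊔ U) ψ).range = U := by
    refine range_eq_of_image_le (F.injective_of_mem (restr_mem F _ hψ)) ?_ le_rfl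
    rintro _ ⟨v, rfl⟩
    exact hψU.le ((mem_map_subgroupOf ψ).2 ⟨_, v.2, rfl⟩)
  obtain ⟨g, hg, hge⟩ := aut_inner_of_localP hS hF h hU.1 (FusionAlperin.isNormal_le_normalizer hU)
    hab (toIso_mem_autGroup F (restr_mem F _ hψ) hr)
  have h1 := hge ⟨x, hx.1⟩
  rw [toIso_coe, restr_apply] at h1
  have h2 : g * (x : Ω) * g⁻¹ = x := by rw [hx.2.2 g hg, mul_inv_cancel_right]
  rw [restr_apply]
  show ψ ⟨x, _⟩ ∈ U ⊓ zOf S
  rw [show ψ ⟨x, _⟩ = (x : Ω) from h1.trans h2]
  exact hx

/-- A system with local `p`-automizers at the centric normal subgroups of `S` is inner. -/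
theorem inner_of_localP (hp : p ≠ 2) :
    ∀ (n : ℕ) {Ω : Type u} [Group Ω] {S : Subgroup Ω} [Finite S], IsPGroup p S →
      ∀ (F : FusionSystem S), F.IsSaturated p → LocalP F p → Nat.card S = n →
        F = innerFusionSystem S := by
  intro n
  induction n using Nat.strong_induction_on with
  | _ n ih =>
  intro Ω _ S _ hS F hF h hn
  by_cases hS1 : S = ⊥
  · refine inner_of_glauberman_thompson hS hF hp fun P hP _ α _ _ => ⟨0, ?_⟩
    rw [pow_zero, pow_one]
    refine MulEquiv.ext fun x => Subtype.ext ?_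
    have h0 : ∀ y : P, (y : Ω) = 1 := fun y => Subgroup.mem_bot.1 (hS1 ▸ (hP y.2).1)
    rw [h0, h0]
  have step : ∀ (T : Subgroup Ω) (E : FusionSystem T), T = S → E.IsSaturated p →
      (∀ P, E.Hom P ⊆ F.Hom P) → E.IsNormal (Cfsg.centerThompsonAOf S) →
      E = innerFusionSystem T := by
    rintro T E rfl hE hle hU
    set U := Cfsg.centerThompsonAOf T with hUdef
    have hUn := FusionAlperin.isNormal_le_normalizer hU
    have hloc := localP_of_le hle h
    set Z := U ⊓ zOf T with hZdef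
    have hZ : E.IsNormal Z :=
      isNormal_inf_zOf hS hE hloc hU (Modules.centerThompsonAOf_comm T)
    have hZ1 : Z ≠ ⊥ := by
      rw [hZdef, inf_eq_right.2 (Modules.center_le_centerThompsonAOf T)]
      exact zOf_ne_bot hS hS1
    have hsc := FusionAlperin.isNormal_stronglyClosed hZ
    haveI : (Z.subgroupOf T).Normal := ⟨fun a ha g => by
      rw [Subgroup.mem_subgroupOf] at ha ⊢; exact FusionAlperin.sc_conj_mem hsc g.2 ha⟩
    set θ : T →* T ⧸ Z.subgroupOf T := QuotientGroup.mk' (Z.subgroupOf T) with hθ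
    have hker : ∀ s : T, θ s = 1 ↔ (s : Ω) ∈ Z := fun s =>
      (QuotientGroup.eq_one_iff s).trans Subgroup.mem_subgroupOf
    have hrange : θ.range = (⊤ : Subgroup (T ⧸ Z.subgroupOf T)) :=
      MonoidHom.range_eq_top.2 (QuotientGroup.mk'_surjective _)
    have hfac := FusionAlperin.factorSystem_isFactorSystem E hsc θ hker hrange
    set F' := FusionAlperin.factorSystem E hsc θ hker hrange
    obtain ⟨hfin, hS'⟩ := FusionSub.factor_finite_pgroup hS hfac
    have hlt : Nat.card (⊤ : Subgroup (T ⧸ Z.subgroupOf T)) < n := by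
      rw [← hn, Subgroup.card_top, Subgroup.card_eq_card_quotient_mul_card_subgroup (Z.subgroupOf T)]
      refine lt_mul_of_one_lt_right Nat.card_pos ?_
      refine Finite.one_lt_card_iff_nontrivial.2 ((Subgroup.nontrivial_iff_ne_bot _).2 fun h0 => hZ1 ?_)
      rw [Subgroup.subgroupOf_eq_bot, disjoint_iff, inf_eq_left.2 hsc.1] at h0
      exact h0
    have hloc' : LocalP F' p := by
      intro Q hQ hQn hQc
      have hVS : preimageAlong θ Q ≤ T := FusionAlperin.preimageAlong_le Q
      have hVn : T ≤ Subgroup.normalizer (preimageAlong θ Q : Set Ω) := by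
        have key : ∀ g ∈ T, ∀ y ∈ preimageAlong θ Q, g * y * g⁻¹ ∈ preimageAlong θ Q := by
          intro g hg y hy
          obtain ⟨hyS, hy'⟩ := FusionAlperin.mem_preimageAlong.1 hy
          refine FusionAlperin.mem_preimageAlong.2
            ⟨T.mul_mem (T.mul_mem hg hyS) (T.inv_mem hg), ?_⟩
          rw [FusionAlperin.theta_conj hg hyS]
          exact (Subgroup.mem_normalizer_iff.1 (hQn (Subgroup.mem_top _)) _).1 hy'
        exact fun g hg => Subgroup.mem_normalizer_iff.2 fun y => ⟨key g hg y, fun hy => by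
          simpa [mul_assoc] using key g⁻¹ (T.inv_mem hg) _ hy⟩
      refine normP_factor hfac hQ hQn (hloc _ hVS hVn ?_) hVn
      intro c hc
      refine FusionAlperin.mem_preimageAlong.2 ⟨hc.1, hQc ⟨Subgroup.mem_top _, fun q hq => ?_⟩⟩
      obtain ⟨t, rfl⟩ : q ∈ θ.range := hrange.ge (Subgroup.mem_top _)
      rw [← map_mul, ← map_mul]
      exact congrArg θ (Subtype.ext (hc.2 t (FusionAlperin.mem_preimageAlong.2 ⟨t.2, hq⟩)))
    have hF' := ih _ hlt hS' F' (FusionSub.factor_saturated hS hE hsc hfac) hloc' rfl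
    refine inner_of_factor hS hE hZ hfac ?_ ?_
    · rw [hF']; exact autP_inner hS'
    · have hc : centralizerIn T Z = T := inf_eq_left.2 fun t ht z hz => (hz.2.2 t ht).symm
      rw [hc, sup_eq_right.2 hsc.1]
      exact hloc T le_rfl Subgroup.le_normalizer fun x hx => hx.1
  have hUS : Cfsg.centerThompsonAOf S ≤ S := Modules.centerThompsonAOf_le S
  have hT : normalizerIn S (Cfsg.centerThompsonAOf S) = S := by
    have h1 := le_normalizer_wOf_self (zjA_natural p) hS
    rw [wOf_zjA] at h1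
    exact inf_eq_left.2 h1
  have hfn := FusionCrit.isFullyNormalized_of_normal F hUS (hT.ge.trans inf_le_right)
  refine inner_of_glauberman_thompson hS hF hp (normP_of_inner hS hUS fun P => ?_)
  rw [step _ (normSys F _ hUS) hT (normSys_saturated hS hF hfn) (fun P φ hφ => hφ.1)
    (normSys_isNormal F hUS)]

end Cfsg.Agent.FusionBatch.ConstrainedWitness
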