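import Cfsg.Agent.FusionBatch.Basic

/-!
The largest normal subgroup, when centric, absorbs every element inducing a `p`-core automorphism on it.
-/

set_option autoImplicit false

open Cfsg Cfsg.FusionSystem Cfsg.Agent.FusionSys
open scoped Pointwise

namespace Cfsg.Agent.FusionBatch

variable {Ω : Type*} [Group Ω] {S : Subgroup Ω} [Finite S] {p : ℕ} [Fact p.Prime]

theorem core_isCentric {F : FusionSystem S} {Q : Subgroup Ω} (hQn : F.IsNormal Q) (hQc : F.IsCentric Q) :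
    F.IsCentric F.core :=
  isCentric_mono hQc (le_sSup hQn) (Cfsg.Agent.FusionAlperin.isNormal_core F).1

/-- Elements of `S` acting on a centric core as elements of a normal `p`-subgroup lie in it. -/
theorem mem_core_of_normal_pGroup (hS : IsPGroup p S) {F : FusionSystem S} (hF : F.IsSaturated p)
    {Q : Subgroup Ω} (hQn : F.IsNormal Q) (hQmax : ∀ W, F.IsNormal W → W ≤ Q)
    (hc : F.IsCentric Q) (M : Subgroup (MulAut Q))
    (hMn : ∀ a ∈ F.autGroup Q, ∀ m ∈ M, a * m * a⁻¹ ∈ M) (hMp : IsPGroup p M)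
    {g : Ω} (hg : g ∈ normalizerIn S Q) (hgM : Q.normalizerMonoidHom ⟨g, hg.2⟩ ∈ M) :
    g ∈ Q := by
  classical
  have hnQ : ∀ s ∈ S, s ∈ normalizerIn S Q := fun s hs =>
    ⟨hs, Cfsg.Agent.FusionAlperin.isNormal_le_normalizer hQn hs⟩
  let W : Subgroup Ω := (M.comap (Q.normalizerMonoidHom.comp
    (Subgroup.inclusion (inf_le_right : normalizerIn S Q ≤ Subgroup.normalizer (Q : Set Ω))))).map
      (normalizerIn S Q).subtype
  have hW : ∀ {w : Ω}, w ∈ W ↔ ∃ hw : w ∈ normalizerIn S Q, Q.normalizerMonoidHom ⟨w, hw.2⟩ ∈ M := by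
    intro w
    constructor
    · rintro ⟨⟨w, hw⟩, h, rfl⟩; exact ⟨hw, h⟩
    · rintro ⟨hw, h⟩; exact ⟨⟨w, hw⟩, h, rfl⟩
  suffices hN : F.IsNormal W by
    have : W ≤ Q := hQmax W hN
    exact this (hW.2 ⟨hg, hgM⟩)
  refine isNormal_of_mem_radical hS hF fun P hPn hPc hPr => ?_
  have hPS := hPn.1
  haveI : Finite P := finite_of_le inferInstance hPS
  haveI : Finite Q := finite_of_le inferInstance hQn.1
  have hQP : Q ≤ P := by
    refine le_radical_of_carried hS (Cfsg.Agent.FusionAlperin.isNormal_stronglyClosed hQn) hPc hPr ?_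
    intro γ hγ r hr
    obtain ⟨ψ, hψ, h1, h2⟩ := hQn.2 P _ (autGroup_mem_hom F hPS hγ)
    refine ⟨ψ ⟨r, le_sup_right (a := P) hr⟩, h2.le ((mem_map_subgroupOf _).2 ⟨_, hr, rfl⟩), fun x y _ hy => ?_⟩
    change ((γ y : P) : Ω) = _ * ((γ x : P) : Ω) * _
    have e1 := h1 x
    have e2 := h1 y
    simp only [MonoidHom.comp_apply, MulEquiv.coe_toMonoidHom, Subgroup.coe_subtype] at e1 e2
    rw [← e1, ← e2, show Subgroup.inclusion (le_sup_left : P ≤ P ⊔ Q) y =
      ⟨r, le_sup_right (a := P) hr⟩ * Subgroup.inclusion le_sup_left x * ⟨r, le_sup_right (a := P) hr⟩⁻¹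
      from Subtype.ext hy, map_mul, map_mul, map_inv]
  -- restriction to `Q`
  have hsc := Cfsg.Agent.FusionAlperin.isNormal_stronglyClosed hQn
  have hrange : ∀ a : MulAut P, a ∈ F.autGroup P →
      (restr hQP (P.subtype.comp a.toMonoidHom)).range = Q := fun a ha =>
    range_eq_of_image_le (F.injective_of_mem (restr_mem F hQP (autGroup_mem_hom F hPS ha)))
      (by rintro _ ⟨x, rfl⟩; exact Cfsg.Agent.FusionAlperin.sc_map_mem hsc (autGroup_mem_hom F hPS ha) x.2)
      le_rfl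
  let res : F.autGroup P →* MulAut Q := MonoidHom.mk'
    (fun a => toIso F (restr_mem F hQP (autGroup_mem_hom F hPS a.2)) (hrange a a.2))
    fun a b => by
      refine MulEquiv.ext fun x => Subtype.ext ?_
      rw [MulAut.mul_apply]
      simp only [toIso_coe]
      exact congrArg (fun z : P => (((a : MulAut P) z : P) : Ω)) (Subtype.ext rfl)
  have hres : ∀ a : F.autGroup P, res a ∈ F.autGroup Q := fun a =>
    toIso_mem_autGroup F (restr_mem F hQP (autGroup_mem_hom F hPS a.2)) (hrange a a.2)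
  have hcoe : ∀ (a : F.autGroup P) (x : Q),
      ((res a x : Q) : Ω) = (((a : MulAut P) ⟨(x : Ω), hQP x.2⟩ : P) : Ω) := fun a x => by
    simp only [res, MonoidHom.mk'_apply, toIso_coe]
    rfl
  let K : Subgroup (F.autGroup P) := M.comap res
  have hKn : K.Normal := ⟨fun k hk a => by
    show res (a * k * a⁻¹) ∈ M
    rw [map_mul, map_mul, map_inv]
    exact hMn _ (hres a) _ hk⟩
  have hKp : IsPGroup p K := by
    intro k
    obtain ⟨e, he⟩ := hMp ⟨res k, k.2⟩
    have hfix : ∀ x : P, (x : Ω) ∈ Q → (((k : F.autGroup P) : MulAut P) ^ p ^ e) x = x := by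
      intro x hx
      apply Subtype.ext
      have h1 : res ((k : F.autGroup P) ^ p ^ e) = 1 := by
        rw [map_pow]; exact congrArg Subtype.val he
      have h2 := congrArg (fun α : MulAut Q => ((α ⟨x, hx⟩ : Q) : Ω)) h1
      simp only [MulAut.one_apply] at h2
      refine Eq.trans ?_ h2
      rw [hcoe]
      rfl
    obtain ⟨z, hzc, -, hz⟩ := centric_aut_inner hS hF hc hQP
      (hPS.trans (Cfsg.Agent.FusionAlperin.isNormal_le_normalizer hQn))
      (Subgroup.pow_mem _ (k : F.autGroup P).2 (p ^ e)) hPS hfix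
    obtain ⟨j, hj⟩ := hS ⟨z, hzc.1⟩
    have hzj : z ^ p ^ j = 1 := by simpa using congrArg Subtype.val hj
    refine ⟨e + j, Subtype.ext (Subtype.ext (MulEquiv.ext fun x => Subtype.ext ?_))⟩
    show (((((k ^ p ^ (e + j) : K) : F.autGroup P) : MulAut P) x : P) : Ω) = (x : Ω)
    rw [SubmonoidClass.coe_pow, SubmonoidClass.coe_pow, pow_add, pow_mul]
    have hpow : ∀ m : ℕ, ((((((k : F.autGroup P) : MulAut P) ^ p ^ e) ^ m) x : P) : Ω) =
        z ^ m * x * (z ^ m)⁻¹ := by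
      intro m
      induction m with
      | zero => simp
      | succ m ih =>
        rw [pow_succ', MulAut.mul_apply, hz, ih, pow_succ' z m, mul_inv_rev]
        simp [mul_assoc]
    rw [hpow, hzj]
    simp
  have hcore := Cfsg.Agent.Cores.le_pCore hKn hKp
  have hWP : ∀ w ∈ W, w ∈ Subgroup.normalizer (P : Set Ω) → w ∈ P := by
    intro w hw hwN
    obtain ⟨hwS, hwM⟩ := hW.1 hw
    refine mem_of_mem_pCore hS hPc hPr ⟨hwS.1, hwN⟩ ?_
    have hmem : P.normalizerMonoidHom ⟨w, hwN⟩ ∈ F.autGroup P :=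
      autInducedBy_le_autGroup F hPS (mem_autInducedBy.2 ⟨w, hwS.1, fun x => rfl⟩)
    refine ⟨⟨_, hmem⟩, hcore ?_, rfl⟩
    show res ⟨_, hmem⟩ ∈ M
    rw [show res ⟨_, hmem⟩ = Q.normalizerMonoidHom ⟨w, hwS.2⟩ from MulEquiv.ext fun x => Subtype.ext
      (by rw [hcoe]; rfl)]
    exact hwM
  have hWle : W ≤ P := by
    by_contra hle
    have hlt : P < P ⊔ W := lt_of_le_of_ne le_sup_left fun h => hle (h ▸ le_sup_right)
    have hWS : W ≤ S := fun w hw => (hW.1 hw).1.1
    haveI : Finite ↥(P ⊔ W) := finite_of_le inferInstance (sup_le hPS hWS)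
    obtain ⟨g', hg', hgN, hgP⟩ := Cfsg.Agent.FusionAlperin.exists_normalizer_mem_not_mem (p := p)
      (hS.to_le (sup_le hPS hWS)) hlt
    have hnorm : P ≤ Subgroup.normalizer (W : Set Ω) := by
      intro x hx
      rw [Subgroup.mem_normalizer_iff]
      have key : ∀ y ∈ S, ∀ w ∈ W, y * w * y⁻¹ ∈ W := by
        intro y hy w hw
        obtain ⟨hwS, hwM⟩ := hW.1 hw
        have hin : y * w * y⁻¹ ∈ normalizerIn S Q := hnQ _ (mul_mem (mul_mem hy hwS.1) (inv_mem hy))
        refine hW.2 ⟨hin, ?_⟩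
        have := hMn _ (autInducedBy_le_autGroup F hQn.1
          (mem_autInducedBy.2 ⟨y, hy, fun x => rfl⟩ : Q.normalizerMonoidHom ⟨y, (hnQ y hy).2⟩ ∈ _)) _ hwM
        rw [← map_inv, ← map_mul, ← map_mul] at this
        exact this
      intro w
      refine ⟨key x (hPS hx) w, fun h => ?_⟩
      have := key x⁻¹ (inv_mem (hPS hx)) _ h
      simpa [mul_assoc] using this
    rw [← SetLike.mem_coe, Subgroup.coe_mul_of_left_le_normalizer_right P W hnorm] at hg'
    obtain ⟨x, hx, w, hw, rfl⟩ := hg'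
    refine hgP (P.mul_mem hx (hWP w hw ?_))
    have := (Subgroup.normalizer (P : Set Ω)).mul_mem
      ((Subgroup.normalizer (P : Set Ω)).inv_mem (Subgroup.le_normalizer hx)) hgN
    simpa using this
  refine ⟨hWle, fun α hα x hx => ?_⟩
  obtain ⟨hxS, hxM⟩ := hW.1 hx
  have hin : (α x : Ω) ∈ normalizerIn S Q := hnQ _ (hPS (α x).2)
  refine hW.2 ⟨hin, ?_⟩
  have := hMn _ (hres ⟨α, hα⟩) _ hxM
  rwa [show Q.normalizerMonoidHom ⟨(α x : Ω), hin.2⟩ =
    res ⟨α, hα⟩ * Q.normalizerMonoidHom ⟨(x : Ω), hxS.2⟩ * (res ⟨α, hα⟩)⁻¹ from ?_]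
  apply MulEquiv.ext
  intro q
  apply Subtype.ext
  obtain ⟨q', rfl⟩ := (res ⟨α, hα⟩).surjective q
  rw [MulAut.mul_apply, MulAut.mul_apply, MulAut.inv_def, MulEquiv.symm_apply_apply]
  rw [hcoe]
  show (α x : Ω) * ((res ⟨α, hα⟩ q' : Q) : Ω) * (α x : Ω)⁻¹ = _
  rw [hcoe]
  show (α x : Ω) * ((α ⟨q', hQP q'.2⟩ : P) : Ω) * (α x : Ω)⁻¹ = _
  rw [← Subgroup.coe_inv, ← Subgroup.coe_mul, ← Subgroup.coe_mul, ← map_inv, ← map_mul, ← map_mul]
  rfl

end Cfsg.Agent.FusionBatch
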