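import Cfsg.Agent.FusionBatch.Basic
import Cfsg.Agent.FusionBatch.ConstrainedWitness
import Cfsg.Agent.FusionAux.SeriesStab
import Cfsg.Agent.S5090

/-!
A saturated system with nontrivial core over a group that looks like the Sylow subgroup of
`SL₃(q)` is constrained.
-/

set_option autoImplicit false
set_option maxHeartbeats 800000

open Cfsg Cfsg.FusionSystem Cfsg.Agent.FusionSys Cfsg.Agent.FusionAux

open scoped commutatorElement

namespace Cfsg.Agent.FusionBatch.Heis

universe u

/-- The commutator properties of the Sylow `p`-subgroup of `SL₃(q)`. -/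
structure Good (G : Type u) [Group G] : Prop where
  comm : ∀ a b : G, ⁅a, b⁆ ∈ Subgroup.center G
  ab : ∀ x : G, x ∉ Subgroup.center G → ∀ a b : G, Commute a x → Commute b x → Commute a b
  surj : ∀ x : G, x ∉ Subgroup.center G → ∀ z ∈ Subgroup.center G, ∃ y : G, ⁅x, y⁆ = z
  noncomm : ∃ x : G, x ∉ Subgroup.center G

theorem Good.of_equiv {G : Type u} [Group G] {H : Type*} [Group H] (e : G ≃* H)
    (hc : ∀ a b : H, ⁅a, b⁆ ∈ Subgroup.center H)
    (hab : ∀ x : H, x ∉ Subgroup.center H → ∀ a b : H, Commute a x → Commute b x → Commute a b)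
    (hs : ∀ x : H, x ∉ Subgroup.center H → ∀ z ∈ Subgroup.center H, ∃ y : H, ⁅x, y⁆ = z)
    (hn : ∃ x : H, x ∉ Subgroup.center H) : Good G := by
  have hmem : ∀ x : G, x ∈ Subgroup.center G ↔ e x ∈ Subgroup.center H := by
    intro x
    rw [Subgroup.mem_center_iff, Subgroup.mem_center_iff]
    constructor
    · intro h y
      obtain ⟨y, rfl⟩ := e.surjective y
      rw [← map_mul, ← map_mul, h]
    · intro h y
      exact e.injective (by rw [map_mul, map_mul, h])
  refine ⟨fun a b => ?_, fun x hx a b ha hb => ?_, fun x hx z hz => ?_, ?_⟩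
  · rw [hmem, map_commutatorElement]
    exact hc _ _
  · exact (hab (e x) (fun h => hx ((hmem x).2 h)) (e a) (e b) (ha.map e) (hb.map e)).of_map e.injective
  · obtain ⟨y, hy⟩ := hs (e x) (fun h => hx ((hmem x).2 h)) (e z) ((hmem z).1 hz)
    refine ⟨e.symm y, e.injective ?_⟩
    rw [map_commutatorElement, e.apply_symm_apply, hy]
  · obtain ⟨x, hx⟩ := hn
    exact ⟨e.symm x, fun h => hx (by simpa using (hmem _).1 h)⟩

variable {Ω : Type u} [Group Ω] {S : Subgroup Ω} [Finite S] {p : ℕ} [Fact p.Prime]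

omit [Finite S] in
theorem mem_zS_iff {x : Ω} (hx : x ∈ S) :
    x ∈ S ⊓ Subgroup.centralizer (S : Set Ω) ↔ (⟨x, hx⟩ : S) ∈ Subgroup.center S := by
  rw [Subgroup.mem_center_iff]
  constructor
  · exact fun h y => Subtype.ext (h.2 y y.2)
  · exact fun h => ⟨hx, fun y hy => congrArg Subtype.val (h ⟨y, hy⟩)⟩

/-- A saturated system over such a group with a nontrivial normal subgroup is constrained. -/
theorem constrained_of_core_ne_bot (hS : IsPGroup p S) {F : FusionSystem S} (hF : F.IsSaturated p)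
    (hG : Good ↥S) {Q : Subgroup Ω} (hQ : F.IsNormal Q) (hQ1 : Q ≠ ⊥) : F.IsConstrained p := by
  set Z : Subgroup Ω := S ⊓ Subgroup.centralizer (S : Set Ω) with hZdef
  have hcomm : ∀ a ∈ S, ∀ b ∈ S, a * b * a⁻¹ * b⁻¹ ∈ Z := fun a ha b hb =>
    (mem_zS_iff (S.mul_mem (S.mul_mem (S.mul_mem ha hb) (S.inv_mem ha)) (S.inv_mem hb))).2
      (hG.comm ⟨a, ha⟩ ⟨b, hb⟩)
  have hab : ∀ x ∈ S, x ∉ Z → ∀ a ∈ S, ∀ b ∈ S, a * x = x * a → b * x = x * b → a * b = b * a := by
    intro x hx hxZ a ha b hb h1 h2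
    exact congrArg Subtype.val (hG.ab ⟨x, hx⟩ (fun h => hxZ ((mem_zS_iff hx).2 h)) ⟨a, ha⟩ ⟨b, hb⟩
      (Subtype.ext h1) (Subtype.ext h2)).eq
  have hsurj : ∀ x ∈ S, x ∉ Z → ∀ z ∈ Z, ∃ y ∈ S, x * y * x⁻¹ * y⁻¹ = z := by
    intro x hx hxZ z hz
    obtain ⟨y, hy⟩ := hG.surj ⟨x, hx⟩ (fun h => hxZ ((mem_zS_iff hx).2 h)) ⟨z, hz.1⟩
      ((mem_zS_iff hz.1).1 hz)
    exact ⟨y, y.2, congrArg Subtype.val hy⟩
  obtain ⟨a₀, ha₀⟩ := hG.noncomm
  have ha₀Z : (a₀ : Ω) ∉ Z := fun h => ha₀ ((mem_zS_iff a₀.2).1 h)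
  have hQinv : ∀ R, Q ≤ R → ∀ α ∈ F.autGroup R, R ≤ S → ∀ x : R, (x : Ω) ∈ Q → (α x : Ω) ∈ Q := by
    intro R hQR α hα hRS x hx
    obtain ⟨ψ, hψ, hψR, hψQ⟩ := hQ.2 R _ (autGroup_mem_hom F hRS hα)
    have h := hψQ.le ((mem_map_subgroupOf ψ).2 ⟨Subgroup.inclusion le_sup_left x, hx, rfl⟩)
    rwa [hψR] at h
  -- the centric radical subgroups are abelian or everything
  have hrad : ∀ R, F.IsFullyNormalized R → F.IsCentric R → F.IsRadical p R →
      R = S ∨ (∀ x ∈ R, ∀ y ∈ R, x * y = y * x) ∧ S ≤ Subgroup.normalizer (R : Set Ω) ∧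
        ∀ x ∈ R, x ∉ Z → ∀ y ∈ S, y * x = x * y → y ∈ R := by
    intro R _ hRc hRr
    have hRS := hRc.1
    have hZR : Z ≤ R := fun z hz =>
      centralizerIn_self_centric hRc ⟨hz.1, fun r hr => hz.2 r (hRS hr)⟩
    have hRn : S ≤ Subgroup.normalizer (R : Set Ω) := by
      have key : ∀ g ∈ S, ∀ x ∈ R, g * x * g⁻¹ ∈ R := fun g hg x hx => by
        simpa using R.mul_mem (hZR (hcomm g hg x (hRS hx))) hx
      exact fun g hg => Subgroup.mem_normalizer_iff.2 fun x => ⟨key g hg x, fun hx => by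
        simpa [mul_assoc] using key g⁻¹ (S.inv_mem hg) _ hx⟩
    by_cases hcom : ∀ x ∈ R, ∀ y ∈ R, x * y = y * x
    · refine Or.inr ⟨hcom, hRn, fun x hx hxZ y hy hyx => ?_⟩
      exact centralizerIn_self_centric hRc ⟨hy, fun r hr =>
        hab x (hRS hx) hxZ r (hRS hr) y hy (hcom r hr x hx) hyx⟩
    · refine Or.inl (le_antisymm hRS fun g hg => ?_)
      have hZc : ∀ x ∈ R, x ∈ Z ↔ ∀ y ∈ R, y * x = x * y := by
        intro x hx
        refine ⟨fun h y hy => h.2 y (hRS hy), fun h => ?_⟩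
        by_contra hxZ
        exact hcom fun a ha b hb => hab x (hRS hx) hxZ a (hRS ha) b (hRS hb) (h a ha) (h b hb)
      refine mem_of_stabilizes hS hRc hRr (fun i => if i = 0 then ⊥ else if i = 1 then Z else S) 2
        (by simp) (by simpa using hRS) ?_ ?_ ⟨hg, hRn hg⟩ ?_
      · refine monotone_nat_of_le_succ fun i => ?_
        rcases i with _ | _ | i <;> simp [hZdef]
      · intro i hi α hα x hx
        rcases i with _ | _ | i
        · simp only [if_true, Subgroup.mem_bot] at hx ⊢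
          rw [show x = 1 from Subtype.ext hx, map_one]; rfl
        · simp only [if_true, Nat.succ_ne_zero, if_false] at hx ⊢
          refine (hZc _ (α x).2).2 fun y hy => ?_
          have h := (hZc _ x.2).1 hx ((α.symm ⟨y, hy⟩ : R) : Ω) (α.symm ⟨y, hy⟩).2
          have h' := congrArg α (Subtype.ext h : α.symm ⟨y, hy⟩ * x = x * α.symm ⟨y, hy⟩)
          rw [map_mul, map_mul, α.apply_symm_apply] at h'
          exact congrArg Subtype.val h'
        · simpa using hRS (α x).2
      · intro i hi x hx hxi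
        rcases i with _ | _ | i
        · simp only [if_true, Nat.succ_ne_zero, if_false, Subgroup.mem_bot] at hxi ⊢
          have h : g * x = x * g := hxi.2 g hg
          rw [h, mul_inv_cancel_right, inv_mul_cancel]
        · simp only [if_true, Nat.succ_ne_zero, if_false]
          have h := hcomm g hg x (hRS hx)
          have h2 : x⁻¹ * (g * x * g⁻¹) = x⁻¹ * (g * x * g⁻¹ * x⁻¹) * x⁻¹⁻¹ := by simp [mul_assoc]
          rw [h2, show x⁻¹ * (g * x * g⁻¹ * x⁻¹) = g * x * g⁻¹ * x⁻¹ * x⁻¹ from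
            h.2 x⁻¹ (S.inv_mem (hRS hx)), mul_inv_cancel_right]
          exact h
        · omega
  by_cases hall : ∀ R, F.IsFullyNormalized R → F.IsCentric R → F.IsRadical p R → R = S
  · refine ⟨hF, S, FusionBatch.isNormal_of_mem_radical hS hF fun R h1 h2 h3 => ?_,
      FusionBatch.isCentric_self hS hF⟩
    obtain rfl := hall R h1 h2 h3
    exact ⟨le_rfl, fun α _ x _ => (α x).2⟩
  push Not at hall
  obtain ⟨M, hMn, hMc, hMr, hMS⟩ := hall
  obtain ⟨hMcom, hMnorm, hMmax⟩ := (hrad M hMn hMc hMr).resolve_left hMS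
  have hQM : Q ≤ M := FusionAlperin.normal_le_centric_radical hS hMc hMr hQ
  have hMfin : Finite M := finite_of_le ‹_› hMc.1
  have hZM : Z ≤ M := fun z hz =>
    centralizerIn_self_centric hMc ⟨hz.1, fun r hr => hz.2 r (hMc.1 hr)⟩
  by_cases hQZ : Q ≤ Z
  · -- then the action of `S` on `M` is normal in the automizer
    exfalso
    have hpres : ∀ α ∈ F.autGroup M, ∀ x : M, (x : Ω) ∈ Z → ((α x : M) : Ω) ∈ Z := by
      intro α hα z₀ hz₀
      by_contra hmZ
      set m : M := α z₀
      let X := F.autGroup M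
      let L₁ : Subgroup X :=
        { carrier := {β | ((β : MulAut M) m : Ω) * (m : Ω)⁻¹ ∈ Q}
          one_mem' := by simp
          mul_mem' := by
            intro β γ hβ hγ
            have h := hQinv M hQM _ β.2 hMc.1 ((γ : MulAut M) m * m⁻¹) (by simpa using hγ)
            have h2 := Q.mul_mem h hβ
            simpa [map_mul, mul_assoc] using h2
          inv_mem' := by
            intro β hβ
            have h := hQinv M hQM _ (inv_mem β.2) hMc.1 ((β : MulAut M) m * m⁻¹) (by simpa using hβ)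
            have h2 := Q.inv_mem h
            simpa [map_mul] using h2 }
      have hfn : F.IsFullyNormalized M := hMn
      obtain ⟨hle, T, hT⟩ := (saturated_fullyNormalized hS hF hfn).2
      set U : Subgroup X := (autInducedBy S M).subgroupOf X
      have hUfix : ∀ c ∈ U, ∀ z : M, (z : Ω) ∈ Z → ((c : X) : MulAut M) z = z := by
        intro c hc z hz
        obtain ⟨g, hg, hge⟩ := mem_autInducedBy.1 hc
        refine Subtype.ext ((hge z).trans ?_)
        rw [show g * (z : Ω) = z * g from hz.2 g hg, mul_inv_cancel_right]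
      let A : Subgroup X :=
        { carrier := {β | (∀ z : M, (z : Ω) ∈ Z → (β : MulAut M) z = z) ∧
            ∀ x : M, (((x⁻¹ * (β : MulAut M) x : M)) : Ω) ∈ Z}
          one_mem' := ⟨fun z _ => rfl, fun x => by simp⟩
          mul_mem' := by
            rintro β γ ⟨hb1, hb2⟩ ⟨hg1, hg2⟩
            refine ⟨fun z hz => ?_, fun x => ?_⟩
            · show (β : MulAut M) ((γ : MulAut M) z) = z
              rw [hg1 z hz, hb1 z hz]
            · have h := hb1 _ (hg2 x)
              rw [map_mul, map_inv] at h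
              show (((x⁻¹ * (β : MulAut M) ((γ : MulAut M) x) : M)) : Ω) ∈ Z
              rw [show x⁻¹ * (β : MulAut M) ((γ : MulAut M) x) =
                (x⁻¹ * (β : MulAut M) x) * (x⁻¹ * (γ : MulAut M) x) by rw [← h]; group]
              exact Z.mul_mem (hb2 x) (hg2 x)
          inv_mem' := by
            rintro β ⟨hb1, hb2⟩
            refine ⟨fun z hz => (β : MulAut M).injective ?_, fun x => ?_⟩
            · show (β : MulAut M) ((β : MulAut M).symm z) = _
              rw [MulEquiv.apply_symm_apply, hb1 z hz]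
            · have h := hb2 ((β : MulAut M).symm x)
              rw [MulEquiv.apply_symm_apply] at h
              show (((x⁻¹ * (β : MulAut M).symm x : M)) : Ω) ∈ Z
              simpa using Z.inv_mem h }
      have hAp : IsPGroup p A := by
        refine isPGroup_of_pow_eq_one _ fun β hβ => ?_
        obtain ⟨e, he⟩ := exists_pow_fix_series (hS.to_le hMc.1) (α := (β : MulAut M))
          (fun i => if i = 0 then ⊥ else if i = 1 then Z.subgroupOf M else ⊤)
          (fun x hx => by
            simp only [if_true, Subgroup.mem_bot] at hx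
            simp [hx])
          2 (fun i _ => by rcases i with _ | _ | i <;> simp)
          (fun i hi x hx => by
            rcases i with _ | _ | i
            · simp only [if_true, Nat.succ_ne_zero, if_false, Subgroup.mem_bot] at hx ⊢
              rw [hβ.1 x hx, inv_mul_cancel]
            · simp only [if_true, Nat.succ_ne_zero, if_false]
              exact hβ.2 x
            · omega) 2 le_rfl
        exact ⟨e, Subtype.ext (MulEquiv.ext fun x => he x (by simp))⟩
      have hUA : U ≤ A := by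
        intro c hc
        refine ⟨hUfix c hc, fun x => ?_⟩
        obtain ⟨g, hg, hge⟩ := mem_autInducedBy.1 hc
        have h := hcomm g hg x (hMc.1 x.2)
        rw [Subgroup.coe_mul, Subgroup.coe_inv]
        rw [show (((c : X) : MulAut M) x : Ω) = g * x * g⁻¹ from hge x, show (x : Ω)⁻¹ * (g * x * g⁻¹) = g * x * g⁻¹ * (x : Ω)⁻¹ from ?_]
        · exact h
        have h3 : g * x * g⁻¹ ∈ M := (Subgroup.mem_normalizer_iff.1 (hMnorm hg) _).1 x.2
        exact (hMcom _ h3 _ (M.inv_mem x.2)).symm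
      have hUT : U = (T : Subgroup X) := hT.symm
      have hAU : A = U := by
        rw [hUT]; exact T.3 hAp (hUT ▸ hUA)
      -- the element of `S` moving `m` inside `Q`
      haveI : Nontrivial Q := (Subgroup.nontrivial_iff_ne_bot Q).2 hQ1
      obtain ⟨⟨q, hq⟩, hq1⟩ := exists_ne (1 : Q)
      obtain ⟨y, hy, hyq⟩ := hsurj m (hMc.1 m.2) hmZ q (hQZ hq)
      have hyM : y ∉ M := by
        intro h
        refine hq1 (Subtype.ext (hyq.symm.trans ?_))
        rw [hMcom _ m.2 _ h]
        simp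
      set u : X := ⟨M.normalizerMonoidHom ⟨y, hMnorm hy⟩,
        autInducedBy_le_autGroup F hMc.1 (mem_autInducedBy.2 ⟨y, hy, fun _ => rfl⟩)⟩
      have huU : u ∈ U := mem_autInducedBy.2 ⟨y, hy, fun _ => rfl⟩
      have huL : u ∈ L₁ := by
        show y * (m : Ω) * y⁻¹ * (m : Ω)⁻¹ ∈ Q
        rw [← hyq] at hq
        simpa [mul_assoc] using Q.inv_mem hq
      let U' : Subgroup X := U.map (MulAut.conj (⟨α, hα⟩ : X)).toMonoidHom
      have hU'L : U' ≤ L₁ := by
        rintro _ ⟨c, hc, rfl⟩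
        show ((α ((c : MulAut M) (α⁻¹ m)) : M) : Ω) * (m : Ω)⁻¹ ∈ Q
        rw [show α⁻¹ m = z₀ from α.symm_apply_apply z₀, hUfix c hc z₀ hz₀]
        simp [m]
      let P₁ : Sylow p X := (⟨α, hα⟩ : X) • T
      have hP₁ : (P₁ : Subgroup X) = U' := by
        show _ = U.map _
        rw [hUT]
        rfl
      obtain ⟨P₃, hP₃⟩ := ((T.2.to_le (hUT ▸ Subgroup.zpowers_le.2 huU)).comap_subtype
        (K := L₁)).exists_le_sylow
      obtain ⟨β, hβ⟩ := MulAction.exists_smul_eq L₁ (P₁.subtype (hP₁ ▸ hU'L)) P₃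
      set γ : X := (β : X) * ⟨α, hα⟩
      have hconj : ∀ c ∈ U, γ * c * γ⁻¹ ∈ L₁ := by
        intro c hc
        have h1 : (⟨α, hα⟩ : X) * c * (⟨α, hα⟩ : X)⁻¹ ∈ L₁ := hU'L ⟨c, hc, rfl⟩
        simpa [γ, mul_assoc] using L₁.mul_mem (L₁.mul_mem β.2 h1) (L₁.inv_mem β.2)
      have huγ : γ⁻¹ * u * γ ∈ U := by
        have h1 : (⟨u, huL⟩ : L₁) ∈ (P₃ : Subgroup L₁) := hP₃ (Subgroup.mem_zpowers u)
        rw [← hβ] at h1
        obtain ⟨c, hc, hce⟩ := h1
        have hc' : (c : X) ∈ U' := hP₁ ▸ hc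
        obtain ⟨d, hd, hde⟩ := hc'
        have h2 : (β : X) * (c : X) * (β : X)⁻¹ = u := congrArg Subtype.val hce
        rw [← hde] at h2
        have h3 : γ⁻¹ * u * γ = d := by
          rw [← h2]
          show ((β : X) * ⟨α, hα⟩)⁻¹ * ((β : X) * ((⟨α, hα⟩ : X) * d * (⟨α, hα⟩ : X)⁻¹) * (β : X)⁻¹) *
            ((β : X) * ⟨α, hα⟩) = d
          group
        exact h3 ▸ hd
      have hγZ : ∀ z : M, (z : Ω) ∈ Z → (((γ : MulAut M) z : M) : Ω) ∈ Z := by
        intro z hz
        by_contra hnot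
        have hfix : (u : MulAut M) ((γ : MulAut M) z) = (γ : MulAut M) z := by
          have h := congrArg (γ : MulAut M) (hUfix _ huγ z hz)
          simpa using h
        refine hyM (hMmax _ ((γ : MulAut M) z).2 hnot y hy ?_)
        have h := congrArg Subtype.val hfix
        change y * _ * y⁻¹ = _ at h
        exact mul_inv_eq_iff_eq_mul.1 h
      have hγZ' : ∀ z : M, (z : Ω) ∈ Z → (((γ : MulAut M).symm z : M) : Ω) ∈ Z := by
        intro z hz
        let f : Z.subgroupOf M → Z.subgroupOf M := fun w => ⟨_, hγZ w w.2⟩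
        have hf : Function.Injective f := fun a b h =>
          Subtype.ext ((γ : MulAut M).injective (congrArg Subtype.val h))
        obtain ⟨w, hw⟩ := Finite.injective_iff_surjective.1 hf ⟨z, hz⟩
        rw [show z = (γ : MulAut M) w from (congrArg Subtype.val hw).symm, MulEquiv.symm_apply_apply]
        exact w.2
      have hγU : ∀ c ∈ U, γ * c * γ⁻¹ ∈ A := by
        intro c hc
        obtain ⟨hc1, hc2⟩ := hUA hc
        refine ⟨fun z hz => ?_, fun x => ?_⟩
        · show (γ : MulAut M) ((c : MulAut M) ((γ : MulAut M).symm z)) = z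
          rw [hc1 _ (hγZ' z hz), MulEquiv.apply_symm_apply]
        · have h := hγZ _ (hc2 ((γ : MulAut M).symm x))
          rw [map_mul, map_inv, MulEquiv.apply_symm_apply] at h
          exact h
      have hUeq : U.map (MulAut.conj γ).toMonoidHom = U := by
        refine Subgroup.eq_of_le_of_card_ge ?_ ?_
        · rintro _ ⟨c, hc, rfl⟩
          exact hAU ▸ hγU c hc
        · rw [Nat.card_congr (Subgroup.equivMapOfInjective U (MulAut.conj γ).toMonoidHom
            (MulAut.conj γ).injective).toEquiv]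
      have hUL : ∀ y' ∈ S, (m : Ω) * y' * (m : Ω)⁻¹ * y'⁻¹ ∈ Q := by
        intro y' hy'
        have hc : (⟨M.normalizerMonoidHom ⟨y', hMnorm hy'⟩, autInducedBy_le_autGroup F hMc.1
            (mem_autInducedBy.2 ⟨y', hy', fun _ => rfl⟩)⟩ : X) ∈ U :=
          mem_autInducedBy.2 ⟨y', hy', fun _ => rfl⟩
        rw [← hUeq] at hc
        obtain ⟨c, hcU, hce⟩ := hc
        have h1 := hconj c hcU
        rw [show γ * c * γ⁻¹ = _ from hce] at h1
        have h2 : y' * (m : Ω) * y'⁻¹ * (m : Ω)⁻¹ ∈ Q := h1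
        simpa [mul_assoc] using Q.inv_mem h2
      have hZQ : Z ≤ Q := fun z hz => by
        obtain ⟨y', hy', h⟩ := hsurj m (hMc.1 m.2) hmZ z hz
        exact h ▸ hUL y' hy'
      exact hmZ (hQZ (hQinv M hQM α hα hMc.1 z₀ (hZQ hz₀)))
    have hSM : S ≤ M := fun g hg => mem_of_stabilizes hS hMc hMr
      (fun i => if i = 0 then ⊥ else if i = 1 then Z else S) 2 (by simp) (by simpa using hMc.1)
      (monotone_nat_of_le_succ fun i => by rcases i with _ | _ | i <;> simp [hZdef])
      (fun i _ α hα x hx => by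
        rcases i with _ | _ | i
        · simp only [if_true, Subgroup.mem_bot] at hx ⊢
          rw [show x = 1 from Subtype.ext hx, map_one]; rfl
        · simp only [if_true, Nat.succ_ne_zero, if_false] at hx ⊢
          exact hpres α hα x hx
        · simpa using hMc.1 (α x).2)
      ⟨hg, hMnorm hg⟩
      (fun i hi x hx hxi => by
        rcases i with _ | _ | i
        · simp only [if_true, Nat.succ_ne_zero, if_false, Subgroup.mem_bot] at hxi ⊢
          rw [show g * x = x * g from hxi.2 g hg, mul_inv_cancel_right, inv_mul_cancel]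
        · simp only [if_true, Nat.succ_ne_zero, if_false]
          have h3 : g * x * g⁻¹ ∈ M := (Subgroup.mem_normalizer_iff.1 (hMnorm hg) _).1 hx
          rw [show x⁻¹ * (g * x * g⁻¹) = g * x * g⁻¹ * x⁻¹ from (hMcom _ h3 _ (M.inv_mem hx)).symm]
          exact hcomm g hg x (hMc.1 hx)
        · omega)
    exact hMS (le_antisymm hMc.1 hSM)
  · obtain ⟨q, hq, hqZ⟩ := SetLike.not_le_iff_exists.1 hQZ
    refine ⟨hF, M, FusionBatch.isNormal_of_mem_radical hS hF fun R h1 h2 h3 => ?_, hMc⟩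
    rcases hrad R h1 h2 h3 with rfl | ⟨hRcom, -, hRmax⟩
    · refine ⟨hMc.1, fun α hα x hx => ?_⟩
      refine hMmax q (hQM hq) hqZ _ (α x).2 ?_
      have hq' := hQinv R hQ.1 _ (inv_mem hα) le_rfl ⟨q, hQ.1 hq⟩ hq
      have h := hMcom x hx _ (hQM hq')
      have h2 := congrArg α (Subtype.ext h : x * α⁻¹ ⟨q, hQ.1 hq⟩ = α⁻¹ ⟨q, hQ.1 hq⟩ * x)
      rw [map_mul, map_mul, show α (α⁻¹ ⟨q, hQ.1 hq⟩) = ⟨q, hQ.1 hq⟩ from α.apply_symm_apply _] at h2
      exact congrArg Subtype.val h2
    · have hQR : Q ≤ R := FusionAlperin.normal_le_centric_radical hS h2 h3 hQ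
      refine ⟨fun x hx => hRmax q (hQR hq) hqZ x (hMc.1 hx) (hMcom x hx q (hQM hq)),
        fun α _ x _ => hMmax q (hQM hq) hqZ _ (h2.1 (α x).2) (hRcom _ (α x).2 q (hQR hq))⟩

/-- An exotic system over such a group has trivial core. -/
theorem core_eq_bot_of_exotic (hS : IsPGroup p S) {F : FusionSystem S} (hF : F.IsSaturated p)
    (hG : Good ↥S) (hex : F.IsExotic p) : F.core = ⊥ := by
  by_contra h
  obtain ⟨G, hGg, ι, hfin, hreal, hsyl, -⟩ := Cfsg.Agent.S5090.result p hS F
    (constrained_of_core_ne_bot hS hF hG (FusionAlperin.isNormal_core F) h)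
  exact hex.2 ⟨G, hGg, hfin, ι, hreal, hsyl⟩

end Cfsg.Agent.FusionBatch.Heis
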