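import Cfsg.Agent.S5273
import Cfsg.Agent.S1949
import Cfsg.Agent.FusionAlperin.Hyperfocal
import Cfsg.Agent.Modules.ElemAb
import Mathlib.GroupTheory.Nilpotent

/-!
Maps between small abelian subgroups of the hyperfocal subgroup determine a saturated system.
-/

set_option autoImplicit false
set_option maxHeartbeats 400000

open Cfsg Cfsg.FusionSystem Cfsg.Agent.FusionSys Cfsg.Agent.FusionAux
open Cfsg.Agent.FusionAlperin (exists_ext_aut extendable_dichotomy extendable_le_of_larger)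

namespace Cfsg.Agent.FusionBatch.HypDetect

variable {Ω : Type*} [Group Ω] {S : Subgroup Ω} [Finite S] {p : ℕ} [Fact p.Prime]

theorem hyperfocal_stronglyClosed' (hS : IsPGroup p S) {F : FusionSystem S} (hF : F.IsSaturated p) :
    F.StronglyClosed (F.hyperfocalSubgroup p) :=
  FusionAlperin.hyperfocal_stronglyClosed hS hF

/-- An abelian subgroup of small exponent inside the hyperfocal subgroup, invariant under `N_S(Q)`,
detecting automorphisms of order prime to `p`. -/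
theorem exists_detecting_abelian_hyp (hS : IsPGroup p S) (F : FusionSystem S) {Q : Subgroup Ω} (hQS : Q ≤ S) :
    ∃ A : Subgroup Ω, A ≤ Q ∧ A ≤ F.hyperfocalSubgroup p ∧
      normalizerIn S Q ≤ Subgroup.normalizer (A : Set Ω) ∧ IsMulCommutative A ∧
      (∀ a ∈ A, a ^ p ^ smallExp p = 1) ∧
      ∀ β ∈ F.autGroup Q, (orderOf β).Coprime p → (∀ x : Q, (x : Ω) ∈ A → β x = x) → β = 1 := by
  classical
  haveI : Finite Q := finite_of_le ‹_› hQS
  obtain ⟨D, hinv, hle, hexp, -, -, hmax⟩ :=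
    Cfsg.Agent.S1949.result (hS.to_le hQS) (F.autGroup Q) (inn_le_autGroup F hQS)
  set T := normalizerIn S Q with hT
  haveI : Finite T := finite_of_le ‹_› inf_le_left
  have hQT : Q ≤ T := le_normalizerIn hQS
  set D' := D.map Q.subtype with hD'
  have hD'T : D' ≤ T := (Subgroup.map_subtype_le D).trans hQT
  have hDconj : ∀ t ∈ T, ∀ y ∈ D', t * y * t⁻¹ ∈ D' := by
    rintro t ht _ ⟨d, hd, rfl⟩
    have hmem : Q.normalizerMonoidHom ⟨t, ht.2⟩ ∈ F.autGroup Q :=
      autInducedBy_le_autGroup F hQS (mem_autInducedBy.2 ⟨t, ht.1, fun _ => rfl⟩)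
    exact ⟨Q.normalizerMonoidHom ⟨t, ht.2⟩ d, (hinv _ hmem).le ⟨d, hd, rfl⟩, rfl⟩
  let Good : Subgroup Ω → Prop := fun B => B ≤ D' ∧ IsMulCommutative B ∧
    ∀ t ∈ T, ∀ b ∈ B, t * b * t⁻¹ ∈ B
  obtain ⟨A, ⟨hAD, hAc, hAT⟩, hAmax⟩ := (setOf_le_finite.subset
      (fun B (hB : Good B) => hB.1.trans ((Subgroup.map_subtype_le D).trans hQS)) :
      {B : Subgroup Ω | Good B}.Finite).exists_maximal
    ⟨⊥, bot_le, inferInstance, fun t _ b hb => by rw [Subgroup.mem_bot.1 hb]; simp⟩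
  have hAQ : A ≤ Q := hAD.trans (Subgroup.map_subtype_le D)
  have hnorm : T ≤ Subgroup.normalizer (A : Set Ω) := fun t ht => by
    refine Subgroup.mem_normalizer_iff.2 fun y => ⟨hAT t ht y, fun hy => ?_⟩
    have := hAT t⁻¹ (inv_mem ht) _ hy
    simpa [mul_assoc] using this
  -- `A` is its own centralizer in `D'`
  have hself : ∀ y ∈ D', (∀ a ∈ A, a * y = y * a) → y ∈ A := by
    by_contra hcon
    push Not at hcon
    obtain ⟨y₀, hy₀D, hy₀c, hy₀A⟩ := hcon
    haveI : Group.IsNilpotent T := (show IsPGroup p T from hS.to_le inf_le_left).isNilpotent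
    set C : Set Ω := {y | y ∈ D' ∧ ∀ a ∈ A, a * y = y * a}
    have hex : ∃ i, ∃ y : T, (y : Ω) ∈ C ∧ (y : Ω) ∉ A ∧ y ∈ Subgroup.upperCentralSeries T i :=
      ⟨Group.nilpotencyClass T, ⟨y₀, hD'T hy₀D⟩, ⟨hy₀D, hy₀c⟩, hy₀A,
        by rw [Subgroup.upperCentralSeries_nilpotencyClass]; exact Subgroup.mem_top _⟩
    obtain ⟨y, ⟨hyD, hyc⟩, hyA, hyi⟩ := Nat.find_spec hex
    obtain ⟨i, hi⟩ : ∃ i, Nat.find hex = i + 1 := ⟨Nat.find hex - 1, by
      rcases Nat.eq_zero_or_pos (Nat.find hex) with h0 | h0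
      · rw [h0, Subgroup.upperCentralSeries_zero, Subgroup.mem_bot] at hyi
        exact absurd (show (y : Ω) ∈ A by rw [hyi]; exact one_mem A) hyA
      · omega⟩
    rw [hi, Subgroup.mem_upperCentralSeries_succ_iff] at hyi
    have hstep : ∀ t : T, (y : Ω) * t * (y : Ω)⁻¹ * (t : Ω)⁻¹ ∈ A := by
      intro t
      by_contra hna
      have hmem : (y : Ω) * t * (y : Ω)⁻¹ * (t : Ω)⁻¹ ∈ C := by
        have h2 : ((t : Ω) * y * (t : Ω)⁻¹) ∈ D' := hDconj t t.2 _ hyD
        refine ⟨?_, fun a ha => ?_⟩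
        · have := D'.mul_mem hyD (D'.inv_mem h2)
          simpa [mul_assoc] using this
        · have h3 : (t : Ω)⁻¹ * a * t ∈ A := by simpa using hAT (t : Ω)⁻¹ (inv_mem t.2) a ha
          have h4 : a * ((t : Ω) * y * (t : Ω)⁻¹) = ((t : Ω) * y * (t : Ω)⁻¹) * a := by
            calc a * ((t : Ω) * y * (t : Ω)⁻¹) = t * (((t : Ω)⁻¹ * a * t) * y) * (t : Ω)⁻¹ := by group
              _ = t * (y * ((t : Ω)⁻¹ * a * t)) * (t : Ω)⁻¹ := by rw [hyc _ h3]
              _ = _ := by group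
          have h5 : Commute a (y : Ω) := hyc a ha
          have h6 : Commute a ((t : Ω) * y * (t : Ω)⁻¹) := h4
          have h7 := (h5.mul_right h6.inv_right).eq
          simpa [mul_assoc] using h7
      exact Nat.find_min hex (show i < Nat.find hex by omega)
        ⟨y * t * y⁻¹ * t⁻¹, by simpa using hmem, by simpa using hna, hyi t⟩
    have hgood : Good (A ⊔ Subgroup.zpowers (y : Ω)) := by
      refine ⟨sup_le hAD (Subgroup.zpowers_le.2 hyD), ?_, ?_⟩
      · exact Cfsg.Agent.Modules.comm_sup hAc inferInstance fun z hz => Subgroup.mem_centralizer_iff.2 fun a ha => by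
          obtain ⟨k, rfl⟩ := Subgroup.mem_zpowers_iff.1 hz
          exact (Commute.zpow_right (hyc a ha : Commute a y) k).eq
      · intro t ht b hb
        have hle : A ⊔ Subgroup.zpowers (y : Ω) ≤
            (A ⊔ Subgroup.zpowers (y : Ω)).comap (MulAut.conj t).toMonoidHom := by
          refine sup_le (fun a ha => Subgroup.mem_sup_left (hAT t ht a ha)) (Subgroup.zpowers_le.2 ?_)
          show t * (y : Ω) * t⁻¹ ∈ A ⊔ Subgroup.zpowers (y : Ω)
          have h1 : t * (y : Ω) * t⁻¹ = ((y : Ω) * t * (y : Ω)⁻¹ * t⁻¹)⁻¹ * y := by group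
          rw [h1]
          exact Subgroup.mul_mem _ (Subgroup.mem_sup_left (inv_mem (hstep ⟨t, ht⟩)))
            (Subgroup.mem_sup_right (Subgroup.mem_zpowers _))
        exact hle hb
    exact hyA ((hAmax hgood le_sup_left) (Subgroup.mem_sup_right (Subgroup.mem_zpowers _)))
  refine ⟨A, hAQ, ?_, hnorm, hAc, ?_, ?_⟩
  · refine hAD.trans ((Subgroup.map_mono hle).trans ?_)
    rw [MonoidHom.map_closure, Subgroup.closure_le]
    rintro _ ⟨y, ⟨α, hα, x, rfl⟩, rfl⟩
    exact Subgroup.subset_closure ⟨Q, α, x, hQS, hα, by simp⟩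
  · intro a ha
    obtain ⟨d, hd, rfl⟩ := hAD ha
    rw [← map_pow]
    rcases hexp d hd with h | ⟨h2, h⟩
    · rw [show p ^ smallExp p = p * p ^ (smallExp p - 1) by
        rw [← pow_succ']; congr 1; unfold smallExp; split <;> omega, pow_mul, h, one_pow, map_one]
    · subst h2; rw [show 2 ^ smallExp 2 = 4 from rfl, h, map_one]
  · intro β hβ hco hfix
    have hAc' : IsMulCommutative (A.subgroupOf Q) := ⟨⟨fun u v => Subtype.ext (Subtype.ext
      (congrArg Subtype.val (hAc.is_comm.comm ⟨_, u.2⟩ ⟨_, v.2⟩) :))⟩⟩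
    have hAD' : A.subgroupOf Q ≤ D := fun u hu => by
      obtain ⟨d, hd, hdu⟩ := hAD hu
      rwa [show u = d from Subtype.ext hdu.symm]
    obtain ⟨k, hk⟩ := (hmax (A.subgroupOf Q) hAD' hAc' fun B hAB hBD hBc => by
      refine le_antisymm (fun b hb => ?_) hAB
      refine hself b ⟨b, hBD hb, rfl⟩ fun a ha => ?_
      exact congrArg Subtype.val (congrArg Subtype.val
        (hBc.is_comm.comm (⟨⟨a, hAQ ha⟩, hAB ha⟩ : B) ⟨b, hb⟩))).2 β hβ fun u hu => hfix u hu
    rw [hk] at hco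
    rcases Nat.eq_zero_or_pos k with rfl | hk0
    · exact orderOf_eq_one_iff.1 (by simpa using hk)
    · exact absurd (Nat.eq_one_of_dvd_coprimes hco (dvd_pow_self p hk0.ne') dvd_rfl)
        (Fact.out : p.Prime).ne_one

/-- The inductive step. -/
theorem autGroup_le {E F : FusionSystem S} (hS : IsPGroup p S) (hE : E.IsSaturated p)
    (hF : F.IsSaturated p) (hEF : ∀ P : Subgroup Ω, E.Hom P ⊆ F.Hom P)
    (hsmall : ∀ A : Subgroup Ω, A ≤ F.hyperfocalSubgroup p → IsMulCommutative A →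
      (∀ a ∈ A, a ^ p ^ smallExp p = 1) →
      F.Hom A ⊆ E.Hom A)
    {Q : Subgroup Ω} (hQ : F.IsFullyNormalized Q)
    (ih : ∀ R, R ≤ S → Nat.card Q < Nat.card R → F.Hom R ⊆ E.Hom R)
    (hcent : ∀ R, F.IsConj Q R → centralizerIn S R ≤ R) : F.autGroup Q ≤ E.autGroup Q := by
  intro α₀ hα₀
  set α : F.autGroup Q := ⟨α₀, hα₀⟩ with hαdef
  have hQS := hQ.1
  have : Finite Q := finite_of_le ‹_› hQS
  set T := normalizerIn S Q with hT
  have hTS : T ≤ S := inf_le_left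
  have : Finite T := finite_of_le ‹_› hTS
  have hQT : Q ≤ T := le_normalizerIn hQS
  obtain ⟨A, hAQ, hAh, hTA, hAc, hAe, hdet⟩ := exists_detecting_abelian_hyp hS F hQS
  obtain ⟨-, R, hR⟩ := (saturated_fullyNormalized hS hF hQ).2
  -- automorphisms fixing `A` are induced by `S`
  have hK : ∀ γ : F.autGroup Q, (∀ x : Q, (x : Ω) ∈ A → (γ : MulAut Q) x = x) →
      (γ : MulAut Q) ∈ autInducedBy S Q := by
    let K : Subgroup (F.autGroup Q) :=
      { carrier := {γ | ∀ x : Q, (x : Ω) ∈ A → (γ : MulAut Q) x = x}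
        one_mem' := fun x _ => rfl
        mul_mem' := fun {a b} ha hb x hx => by
          rw [Subgroup.coe_mul, MulAut.mul_apply, hb x hx, ha x hx]
        inv_mem' := fun {a} ha x hx => by
          conv_lhs => rw [← ha x hx]
          simp }
    have hKp : IsPGroup p K := by
      intro γ
      refine ⟨(orderOf γ).factorization p, ?_⟩
      have hco : (orderOf (γ ^ p ^ (orderOf γ).factorization p)).Coprime p := by
        rw [orderOf_pow' γ (pow_ne_zero _ (Fact.out : p.Prime).ne_zero),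
          Nat.gcd_eq_right (Nat.ordProj_dvd _ _)]
        exact (Nat.coprime_ordCompl Fact.out (orderOf_pos γ).ne').symm
      rw [← Subgroup.orderOf_coe, ← Subgroup.orderOf_coe] at hco
      apply Subtype.ext
      apply Subtype.ext
      exact hdet _ (SetLike.coe_mem _) hco (γ ^ p ^ (orderOf γ).factorization p).2
    have hRK : (R : Subgroup (F.autGroup Q)) ≤ Subgroup.normalizer (K : Set (F.autGroup Q)) := by
      rw [hR]
      intro b hb
      obtain ⟨t, htS, htb⟩ := mem_autInducedBy.1 hb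
      have htA := hTA ⟨htS, mem_normalizer_of_conj_eq _ htb⟩
      have key : ∀ x : Q, ((b : MulAut Q) x : Ω) ∈ A ↔ (x : Ω) ∈ A := fun x => by
        erw [htb x]
        exact (Subgroup.mem_normalizer_iff.1 htA _).symm
      refine Subgroup.mem_normalizer_iff.2 fun γ => ⟨fun hγ x hx => ?_, fun hγ x hx => ?_⟩
      · have h := hγ ((b : MulAut Q)⁻¹ x) ((key _).1 (by simpa using hx))
        show (b : MulAut Q) ((γ : MulAut Q) ((b : MulAut Q)⁻¹ x)) = x
        rw [h]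
        simp
      · have h := hγ ((b : MulAut Q) x) ((key x).2 hx)
        change (b : MulAut Q) ((γ : MulAut Q) ((b : MulAut Q)⁻¹ ((b : MulAut Q) x))) =
          (b : MulAut Q) x at h
        simpa using h
    intro γ hγ
    have hsup : IsPGroup p ((R : Subgroup (F.autGroup Q)) ⊔ K : Subgroup _) :=
      R.2.to_sup_of_normal_right' hKp hRK
    exact hR.le ((R.3 hsup le_sup_left).le (Subgroup.mem_sup_right hγ))
  -- a map `θ` on `T` sending `A` to a fully normalized subgroup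
  obtain ⟨A₀, θ, hθE, hA₀, hA₀fn⟩ : ∃ (A₀ : Subgroup Ω) (θ : T →* Ω), θ ∈ E.Hom T ∧
      (A.subgroupOf T).map θ = A₀ ∧ F.IsFullyNormalized A₀ := by
    rcases hQS.eq_or_lt with hQeq | hlt
    · refine ⟨A, T.subtype, subtype_mem E hTS, Subgroup.map_subgroupOf_eq_of_le (hAQ.trans hQT),
        hAQ.trans hQS, fun B hB => ?_⟩
      have hTeq : S ≤ T := hQeq ▸ hQT
      have : Finite (normalizerIn S A : Subgroup Ω) := finite_of_le ‹_› inf_le_left
      exact Subgroup.card_le_of_le (le_inf (normalizerIn_le B)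
        ((normalizerIn_le B).trans (hTeq.trans hTA)))
    · obtain ⟨A₀, hconj, hA₀⟩ := exists_fullyNormalized F (hAQ.trans hQS)
      obtain ⟨θ, hθ, -, hθA⟩ := exists_normalizer_map_fullyNormalized hS hF hA₀ hconj
      have hle : T ≤ normalizerIn S A := le_inf hTS hTA
      have hlt' : Q < T := lt_normalizerIn hS hQS hlt.ne
      refine ⟨A₀, restr hle θ, restr_mem E hle (ih _ inf_le_left ?_ hθ), ?_, hA₀⟩
      · exact card_lt_card_of_lt inf_le_left (hlt'.trans_le hle)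
      · rw [← hθA]
        ext y
        simp only [mem_map_subgroupOf, restr_apply]
        exact ⟨fun ⟨x, hx, hy⟩ => ⟨_, hx, hy⟩, fun ⟨x, hx, hy⟩ => ⟨⟨x, hQT (hAQ hx)⟩, hx, hy⟩⟩
  have hA₀E : E.IsFullyNormalized A₀ :=
    ⟨hA₀fn.1, fun B ⟨φ, hφ, hφB⟩ => hA₀fn.2 B ⟨φ, hEF _ hφ, hφB⟩⟩
  -- the image of `A` under `α`
  set B := (A.subgroupOf Q).map (Q.subtype.comp α₀.toMonoidHom) with hB
  have hBmem : ∀ x : Q, (x : Ω) ∈ B ↔ ((α₀.symm x : Q) : Ω) ∈ A := by
    intro x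
    rw [hB, mem_map_subgroupOf]
    constructor
    · rintro ⟨y, hy, hyx⟩
      rw [show α₀.symm x = y by rw [MulEquiv.symm_apply_eq]; exact Subtype.ext hyx.symm]
      exact hy
    · intro h
      exact ⟨_, h, by simp⟩
  have hBQ : B ≤ Q := (Subgroup.map_le_range _ _).trans (le_of_eq (range_subtype_comp α₀))
  have hQB : Q ≤ Subgroup.normalizer (B : Set Ω) := by
    have key : ∀ q : Q, ∀ x ∈ B, (q : Ω) * x * (q : Ω)⁻¹ ∈ B := by
      intro q x hx
      have h1 := (hBmem (q * ⟨x, hBQ hx⟩ * q⁻¹)).2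
      simp only [map_mul, map_inv, Subgroup.coe_mul, Subgroup.coe_inv] at h1
      exact h1 ((Subgroup.mem_normalizer_iff.1 (hTA (hQT (α₀.symm q).2)) _).1
        ((hBmem ⟨x, hBQ hx⟩).1 hx))
    intro q hq
    refine Subgroup.mem_normalizer_iff.2 fun y => ⟨key ⟨q, hq⟩ y, fun hy => ?_⟩
    have := key (⟨q, hq⟩⁻¹) _ hy
    simpa [mul_assoc] using this
  let u : Q →* Ω := (θ.comp (Subgroup.inclusion hQT)).comp α₀.symm.toMonoidHom
  let e : B →* Ω := u.comp (Subgroup.inclusion hBQ)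
  have huF : u ∈ F.Hom Q := comp_mem' F
    (autGroup_mem_hom F hQS ((F.autGroup Q).inv_mem hα₀)) (hEF _ hθE)
    (fun x => hQT (α₀.symm x).2) (fun x => rfl)
  have heE : e ∈ E.Hom B := by
    refine hsmall B (fun y hy => ?_) (Cfsg.Agent.S5273.comm_of hAc) (fun b hb => ?_) (restr_mem F hBQ huF)
    · obtain ⟨x, hx, rfl⟩ := mem_map_subgroupOf _ |>.1 hy
      exact (hyperfocal_stronglyClosed' hS hF).2 _ hAh _
        (restr_mem F hAQ (autGroup_mem_hom F hQS hα₀)) ⟨x, hx⟩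
    have h1 := hAe _ ((hBmem ⟨b, hBQ hb⟩).1 hb)
    rw [← SubgroupClass.coe_pow, ← map_pow, OneMemClass.coe_eq_one, EmbeddingLike.map_eq_one_iff]
      at h1
    simpa using congrArg Subtype.val h1
  have her : e.range = A₀ := by
    rw [← hA₀]
    ext y
    rw [mem_map_subgroupOf]
    constructor
    · rintro ⟨x, rfl⟩
      exact ⟨Subgroup.inclusion hQT (α₀.symm (Subgroup.inclusion hBQ x)), (hBmem _).1 x.2, rfl⟩
    · rintro ⟨x, hx, rfl⟩
      have hxB : (α₀ ⟨x, hAQ hx⟩ : Ω) ∈ B := (hBmem _).2 (by simpa using hx)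
      refine ⟨⟨_, hxB⟩, congrArg θ (Subtype.ext ?_)⟩
      show ((α₀.symm (α₀ ⟨(x : Ω), hAQ hx⟩) : Q) : Ω) = x
      rw [MulEquiv.symm_apply_apply]
  obtain ⟨ψ, hψ, hψe, -, -⟩ :=
    receptive_extend (saturated_receptive_of_fullyNormalized hS hE hA₀E) heE her
  have hQext : Q ≤ extender S B e := by
    intro q hq
    refine mem_extender.2 ⟨hQS hq, hQB hq, u ⟨q, hq⟩, map_mem_S F huF _, fun x hx => ?_⟩
    show u _ = u ⟨q, hq⟩ * u _ * (u ⟨q, hq⟩)⁻¹
    rw [← map_mul, ← map_inv, ← map_mul]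
    rfl
  set ψQ := restr hQext ψ with hψQ
  set θQ := restr hQT θ with hθQ
  have hψQE : ψQ ∈ E.Hom Q := restr_mem E hQext hψ
  have hθQE : θQ ∈ E.Hom Q := restr_mem E hQT hθE
  have hagree : ∀ x : Q, (x : Ω) ∈ B → ψQ x = θQ (α₀.symm x) := fun x hx => hψe ⟨x, hx⟩
  have hRE : autInducedBy S Q ≤ E.autGroup Q := autInducedBy_le_autGroup E hQS
  by_cases hrange : ψQ.range = θQ.range
  · set h := (toIso E hψQE hrange).trans (toIso E hθQE rfl).symm with hh
    have hhE : h ∈ E.autGroup Q := (mem_autGroup E hQS).2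
      ((toIso_isIso E hψQE hrange).trans (toIso_isIso E hθQE rfl).symm)
    have hfix : ∀ x : Q, (x : Ω) ∈ A → h (α₀ x) = x := by
      intro x hx
      rw [hh, MulEquiv.trans_apply, MulEquiv.symm_apply_eq]
      apply Subtype.ext
      rw [toIso_coe, toIso_coe, hagree _ ((hBmem _).2 (by simpa using hx))]
      simp
    have h1 := hRE (hK ((⟨h, (mem_autGroup F hQS).2 (hEF _ ((mem_autGroup E hQS).1 hhE))⟩ :
      F.autGroup Q) * α) fun x hx => hfix x hx)
    have h2 := (E.autGroup Q).mul_mem ((E.autGroup Q).inv_mem hhE) h1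
    simpa [hαdef] using h2
  -- otherwise a non-inner `p`-element of `Aut_E(Q)` is conjugated by `α` into `Aut_S(Q)`
  set Q₁ := ψQ.range with hQ₁
  set Q₀ := θQ.range with hQ₀
  have hQ₀n : Q₀ ≤ Subgroup.normalizer (centralizerIn S A₀ : Set Ω) := by
    have key : ∀ q : Q, ∀ c ∈ centralizerIn S A₀, θQ q * c * (θQ q)⁻¹ ∈ centralizerIn S A₀ := by
      rintro q c ⟨hcS, hc⟩
      have hq : θQ q ∈ S := map_mem_S E hθQE q
      refine ⟨S.mul_mem (S.mul_mem hq hcS) (S.inv_mem hq), Subgroup.mem_centralizer_iff.2 ?_⟩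
      intro y hy
      rw [SetLike.mem_coe, ← hA₀, mem_map_subgroupOf] at hy
      obtain ⟨a, ha, rfl⟩ := hy
      have ha' : θ (⟨(q : Ω), hQT q.2⟩⁻¹ * a * ⟨(q : Ω), hQT q.2⟩) ∈ A₀ := by
        rw [← hA₀]
        refine Subgroup.mem_map_of_mem θ ?_
        have := (Subgroup.mem_normalizer_iff''.1 (hTA (hQT q.2)) _).1 ha
        simpa [Subgroup.mem_subgroupOf] using this
      have h1 := Subgroup.mem_centralizer_iff.1 hc _ ha'
      rw [map_mul, map_mul, map_inv] at h1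
      show θ a * (θQ q * c * (θQ q)⁻¹) = θQ q * c * (θQ q)⁻¹ * θ a
      have h2 := congrArg (fun t => θ ⟨(q : Ω), hQT q.2⟩ * t * (θ ⟨(q : Ω), hQT q.2⟩)⁻¹) h1
      simp [hθQ, Subgroup.inclusion, mul_assoc] at h2 ⊢
      exact h2
    rintro _ ⟨q, rfl⟩
    refine Subgroup.mem_normalizer_iff.2 fun y => ⟨key q y, fun hy => ?_⟩
    have := key q⁻¹ _ hy
    simpa [map_inv, mul_assoc] using this
  set W := Q₀ ⊔ centralizerIn S A₀ with hW
  have hWS : W ≤ S := sup_le (range_le_S E hθQE) inf_le_left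
  have : Finite W := finite_of_le ‹_› hWS
  have hQ₁W : Q₁ ≤ W := by
    rintro _ ⟨q, rfl⟩
    have hc : (θQ (α₀.symm q))⁻¹ * ψQ q ∈ centralizerIn S A₀ := by
      refine ⟨S.mul_mem (S.inv_mem (map_mem_S E hθQE _)) (map_mem_S E hψQE _),
        Subgroup.mem_centralizer_iff.2 fun y hy => ?_⟩
      rw [SetLike.mem_coe, ← her] at hy
      obtain ⟨x, rfl⟩ := hy
      have hx' : (q : Ω) * x * (q : Ω)⁻¹ ∈ B := (Subgroup.mem_normalizer_iff.1 (hQB q.2) _).1 x.2
      have h1 := hagree (q * Subgroup.inclusion hBQ x * q⁻¹) hx'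
      simp only [map_mul, map_inv] at h1
      rw [hagree (Subgroup.inclusion hBQ x) x.2] at h1
      show θQ (α₀.symm (Subgroup.inclusion hBQ x)) * _ = _ * θQ (α₀.symm (Subgroup.inclusion hBQ x))
      have h2 := congrArg (fun t => (θQ (α₀.symm q))⁻¹ * t * ψQ q) h1
      simp only [mul_assoc, inv_mul_cancel_left, inv_mul_cancel, mul_one] at h2 ⊢
      exact h2.symm
    have := Subgroup.mul_mem_sup (S := Q₀) (T := centralizerIn S A₀) ⟨α₀.symm q, rfl⟩ hc
    rwa [mul_inv_cancel_left] at this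
  have : Finite Q₁ := finite_of_le ‹_› (range_le_S E hψQE)
  obtain ⟨n, hn, hnN, hnQ⟩ := FusionAlperin.exists_normalizer_mem_not_mem (hS.to_le hWS)
    (lt_of_le_of_ne hQ₁W fun he => hrange (eq_of_le_of_card_le (he.symm ▸ le_sup_left : Q₀ ≤ Q₁)
      (le_of_eq ((Nat.card_congr (MonoidHom.ofInjective (E.injective_of_mem hψQE)).toEquiv).symm.trans
        (Nat.card_congr (MonoidHom.ofInjective (E.injective_of_mem hθQE)).toEquiv)))).symm)
  have hnS : n ∈ S := hWS hn
  rw [← SetLike.mem_coe, Subgroup.coe_mul_of_left_le_normalizer_right _ _ hQ₀n] at hn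
  obtain ⟨_, ⟨q', rfl⟩, c, hc, rfl⟩ := hn
  set ε := toIso E hψQE rfl with hε
  let cn : MulAut Q₁ := Q₁.normalizerMonoidHom ⟨_, hnN⟩
  have hcn : cn ∈ E.autGroup Q₁ := autInducedBy_le_autGroup E (range_le_S E hψQE)
    (mem_autInducedBy.2 ⟨_, hnS, fun x => rfl⟩)
  set β := MulAut.congr ε.symm cn with hβdef
  have hβE : β ∈ E.autGroup Q := autCongr_mem E (toIso_isIso E hψQE rfl).symm hcn
  have hβψ : ∀ x : Q, ψQ (β x) = θQ q' * c * ψQ x * (θQ q' * c)⁻¹ := by
    intro x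
    rw [hβdef, autCongr_apply, ← toIso_coe E hψQE rfl, ← hε, MulEquiv.apply_symm_apply,
      MulEquiv.symm_symm, normalizerMonoidHom_coe]
    rfl
  have hγ : ∀ a : Q, (a : Ω) ∈ A →
      α₀.symm (β (α₀ a)) = q' * a * q'⁻¹ := by
    intro a ha
    have ha' : (α₀ a : Ω) ∈ B := (hBmem _).2 (by simpa using ha)
    have h1 : ψQ (β (α₀ a)) = θQ (q' * a * q'⁻¹) := by
      rw [hβψ, hagree _ ha', MulEquiv.symm_apply_apply, map_mul, map_mul, map_inv, mul_inv_rev,
        mul_assoc (θQ q') c, Subgroup.mem_centralizer_iff.1 hc.2 _ (show θQ a ∈ (A₀ : Set Ω) from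
          hA₀.le ⟨Subgroup.inclusion hQT a, ha, rfl⟩) |>.symm]
      simp [mul_assoc]
    have hconjA : ((q' * a * q'⁻¹ : Q) : Ω) ∈ A :=
      (Subgroup.mem_normalizer_iff.1 (hTA (hQT q'.2)) _).1 ha
    have h2 : ψQ (α₀ (q' * a * q'⁻¹)) = θQ (q' * a * q'⁻¹) := by
      rw [hagree _ ((hBmem _).2 (by simpa using hconjA)), MulEquiv.symm_apply_apply]
    rw [MulEquiv.symm_apply_eq]
    exact E.injective_of_mem hψQE (h1.trans h2.symm)
  have hβF : β ∈ F.autGroup Q := (mem_autGroup F hQS).2 (hEF _ ((mem_autGroup E hQS).1 hβE))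
  refine Cfsg.Agent.S5273.mem_of_conj_mem hS hF hQ ih (α := α) (β := ⟨β, hβF⟩) hβE ?_ ?_ ?_
  · obtain ⟨k, hk⟩ := hS ⟨_, hnS⟩
    refine ⟨k, Subtype.ext ?_⟩
    show β ^ p ^ k = 1
    rw [hβdef, ← map_pow, show cn ^ p ^ k = 1 from ?_, map_one]
    rw [← map_pow, show (⟨θQ q' * c, hnN⟩ : Subgroup.normalizer (Q₁ : Set Ω)) ^ p ^ k = 1 from
      Subtype.ext (congrArg Subtype.val hk :), map_one]
  · rintro ⟨q, hq⟩
    refine hnQ ?_
    have hCQ₁ := hcent Q₁ ⟨ψQ, hEF _ hψQE, rfl⟩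
    have hmem : (ψQ q)⁻¹ * (θQ q' * c) ∈ centralizerIn S Q₁ := by
      refine ⟨S.mul_mem (S.inv_mem (map_mem_S E hψQE q)) hnS, Subgroup.mem_centralizer_iff.2 ?_⟩
      rintro _ ⟨x, rfl⟩
      have h1 := hβψ x
      rw [← show MulAut.conj q = β from hq, MulAut.conj_apply, map_mul, map_mul, map_inv] at h1
      have h2 := congrArg (fun t => (ψQ q)⁻¹ * t * (θQ q' * c)) h1
      simp only [mul_assoc, inv_mul_cancel_left, inv_mul_cancel, mul_one] at h2 ⊢
      exact h2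
    have := Q₁.mul_mem ⟨q, rfl⟩ (hCQ₁ hmem)
    simpa using this
  · -- `γ = α⁻¹ β α` agrees with conjugation by `q'` on `A`
    set γ : F.autGroup Q := α⁻¹ * ⟨β, hβF⟩ * α with hγdef
    let cq : F.autGroup Q := ⟨MulAut.conj q', inn_le_autGroup F hQS ⟨q', rfl⟩⟩
    have h1 := hK (cq⁻¹ * γ) fun x hx => by
      show (MulAut.conj q')⁻¹ (α₀.symm (β (α₀ x))) = x
      rw [hγ x hx]
      simp [mul_assoc]
    have h2 : (cq : MulAut Q) ∈ autInducedBy S Q := by
      refine mem_autInducedBy.2 ⟨q', hQS q'.2, fun x => ?_⟩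
      rfl
    have := (autInducedBy S Q).mul_mem h2 h1
    simpa using this

end Cfsg.Agent.FusionBatch.HypDetect
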