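import Cfsg.Agent.FusionBatch.Basic
import Cfsg.Agent.FusionBatch.SmallExponent
import Cfsg.Agent.FusionAux.CyclicExtension
import Mathlib.GroupTheory.SchurZassenhaus
import Mathlib.FieldTheory.Finite.Basic
import Mathlib.Algebra.Module.ZMod

/-!
Chains of strongly closed subgroups with cyclic factors.
-/

set_option autoImplicit false
set_option maxHeartbeats 400000

open Cfsg Cfsg.FusionSystem Cfsg.Agent.FusionSys

namespace Cfsg.Agent.FusionBatch.SuperChain

variable {p : ℕ} [hp : Fact p.Prime]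

/-! ### Common eigenvectors -/

open Polynomial in
theorem exists_eigen {M : Type*} [AddCommGroup M] [Module (ZMod p) M] [Nontrivial M]
    (f : Module.End (ZMod p) M) (hf : f ^ p = f) : ∃ v : M, v ≠ 0 ∧ ∃ c : ZMod p, f v = c • v := by
  by_contra hcon
  push Not at hcon
  have hinj : ∀ c : ZMod p, Function.Injective (aeval f (X - C c)) := by
    intro c
    rw [injective_iff_map_eq_zero]
    intro v hv
    by_contra hv0
    refine hcon v hv0 c ?_
    simpa [sub_eq_zero, Module.algebraMap_end_apply] using hv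
  have hs : ∀ s : Finset (ZMod p), Function.Injective (aeval f (∏ c ∈ s, (X - C c))) := by
    intro s
    induction s using Finset.induction with
    | empty => simp only [Finset.prod_empty, map_one]; exact fun _ _ h => h
    | insert c s hc ih =>
      rw [Finset.prod_insert hc, map_mul]
      exact (hinj c).comp ih
  have hpoly : (∏ c : ZMod p, (X - C c)) = X ^ p - X := by
    have h := FiniteField.roots_X_pow_card_sub_X (ZMod p)
    rw [ZMod.card] at h
    rw [Finset.prod_eq_multiset_prod, ← h]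
    refine prod_multiset_X_sub_C_of_monic_of_roots_card_eq (monic_X_pow_sub ?_) ?_
    · rw [degree_X]; exact_mod_cast hp.out.one_lt
    · rw [h, FiniteField.X_pow_card_sub_X_natDegree_eq _ hp.out.one_lt]
      simp
  obtain ⟨v, hv⟩ := exists_ne (0 : M)
  refine hv (hs Finset.univ ?_)
  rw [hpoly, map_sub, map_pow, aeval_X, hf, sub_self]
  simp

theorem exists_eigen_add {M : Type*} [AddCommGroup M] [Module (ZMod p) M] [Nontrivial M]
    (a : M →+ M) (ha : ∀ x, a^[p] x = a x) : ∃ v : M, v ≠ 0 ∧ ∃ c : ZMod p, a v = c • v :=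
  exists_eigen (AddMonoidHom.toZModLinearMap p a) (LinearMap.ext fun x => by
    rw [Module.End.pow_apply]
    exact ha x)

theorem exists_eigen_mul {W : Type*} [CommGroup W] [Nontrivial W] (hW : ∀ w : W, w ^ p = 1)
    (a : MulAut W) (ha : a ^ (p - 1) = 1) : ∃ w : W, w ≠ 1 ∧ ∃ t : ℕ, a w = w ^ t := by
  letI hmod : Module (ZMod p) (Additive W) :=
    AddCommGroup.zmodModule fun x => congrArg Additive.ofMul (hW x.toMul)
  have hit : ∀ (k : ℕ) (x : Additive W),
      (MonoidHom.toAdditive a.toMonoidHom)^[k] x = Additive.ofMul ((a ^ k) x.toMul) := by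
    intro k
    induction k with
    | zero => intro x; rfl
    | succ k ih =>
      intro x
      rw [Function.iterate_succ_apply, ih, pow_succ, MulAut.mul_apply]
      rfl
  obtain ⟨v, hv, c, hc⟩ := exists_eigen_add (p := p) (M := Additive W) (MonoidHom.toAdditive a.toMonoidHom)
    (fun x => by
      rw [hit]
      conv_lhs => rw [show p = p - 1 + 1 from (Nat.sub_add_cancel hp.out.one_le).symm, pow_succ, ha, one_mul]
      rfl)
  refine ⟨v.toMul, fun h => hv (Additive.toMul.injective h), c.val, ?_⟩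
  rw [← ZMod.natCast_zmod_val c, Nat.cast_smul_eq_nsmul] at hc
  exact congrArg Additive.toMul hc

theorem exists_common_eigen {W : Type*} [CommGroup W] [Finite W] [Nontrivial W]
    (hW : ∀ w : W, w ^ p = 1) (A : Subgroup (MulAut W)) (hcomm : ∀ a ∈ A, ∀ b ∈ A, a * b = b * a)
    (hexp : ∀ a ∈ A, a ^ (p - 1) = 1) :
    ∃ w : W, w ≠ 1 ∧ ∀ a ∈ A, ∃ t : ℕ, a w = w ^ t := by
  classical
  obtain ⟨U, hU, hmin⟩ := (Set.toFinite {U : Subgroup W | U ≠ ⊥ ∧ ∀ a ∈ A, ∀ u ∈ U, a u ∈ U}).exists_minimal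
    ⟨⊤, ⟨bot_ne_top.symm, fun _ _ _ _ => Subgroup.mem_top _⟩⟩
  haveI : Nontrivial U := Subgroup.nontrivial_iff_ne_bot U |>.2 hU.1
  obtain ⟨⟨v, hvU⟩, hv⟩ := exists_ne (1 : U)
  refine ⟨v, fun h => hv (Subtype.ext h), fun a ha => ?_⟩
  have hmapU : U.map a.toMonoidHom = U := by
    refine eq_of_le_of_card_le ?_ ?_
    · rintro _ ⟨u, hu, rfl⟩
      exact hU.2 a ha u hu
    · rw [Nat.card_congr (U.equivMapOfInjective a.toMonoidHom a.injective).symm.toEquiv]
  let b : MulAut U := ((a : W ≃* W).subgroupMap U).trans (MulEquiv.subgroupCongr hmapU)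
  have hb : ∀ k : ℕ, ∀ u : U, (((b ^ k) u : U) : W) = (a ^ k) u := by
    intro k
    induction k with
    | zero => intro u; rfl
    | succ k ih => intro u; rw [pow_succ, pow_succ, MulAut.mul_apply, MulAut.mul_apply, ih]; rfl
  obtain ⟨u₀, hu₀, t, ht⟩ := exists_eigen_mul (W := U) (fun u => Subtype.ext (hW u)) b
    (MulEquiv.ext fun u => Subtype.ext (by rw [hb, hexp a ha]; rfl))
  refine ⟨t, ?_⟩
  let E : Subgroup W :=
    { carrier := {u | u ∈ U ∧ a u = u ^ t}
      one_mem' := ⟨one_mem _, by simp⟩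
      mul_mem' := by
        rintro x y ⟨hx, hx'⟩ ⟨hy, hy'⟩
        exact ⟨mul_mem hx hy, by rw [map_mul, hx', hy', mul_pow]⟩
      inv_mem' := by
        rintro x ⟨hx, hx'⟩
        exact ⟨inv_mem hx, by rw [map_inv, hx', inv_pow]⟩ }
  have hle : U ≤ E := by
    refine hmin (y := E) ⟨?_, ?_⟩ fun x hx => hx.1
    · intro h
      apply hu₀
      have hmem : (u₀ : W) ∈ E := ⟨u₀.2, by
        have := congrArg Subtype.val ht
        simpa [hb 1] using (hb 1 u₀).symm.trans (by simpa using this)⟩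
      rw [h] at hmem
      exact Subtype.ext (Subgroup.mem_bot.1 hmem)
    · rintro c hc x ⟨hx, hx'⟩
      refine ⟨hU.2 c hc x hx, ?_⟩
      show (a * c) x = _
      rw [hcomm a ha c hc, MulAut.mul_apply, hx', map_pow]
  exact (hle hvU).2

/-! ### The chain when `S` is normal -/

variable {Ω : Type*} [Group Ω] {S : Subgroup Ω} [Finite S]

/-- One step of the chain. -/
theorem exists_step (hS : IsPGroup p S) {A : Subgroup (MulAut S)} (hinn : Inn S ≤ A)
    (hcomp : ∀ a ∈ A, ∃ h ∈ A, h ^ (p - 1) = 1 ∧ ∃ i ∈ Inn S, a = i * h)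
    (hab : ∀ a ∈ A, ∀ b ∈ A, a * b * a⁻¹ * b⁻¹ ∈ Inn S)
    {c : Subgroup S} (hc : ∀ a ∈ A, ∀ x ∈ c, a x ∈ c) (hne : c ≠ ⊤) :
    ∃ x : S, x ∉ c ∧ ∀ a ∈ A, ∀ y ∈ c ⊔ Subgroup.zpowers x, a y ∈ c ⊔ Subgroup.zpowers x := by
  classical
  haveI hcn : c.Normal := ⟨fun n hn g => hc _ (hinn ⟨g, rfl⟩) n hn⟩
  have hmap : ∀ a : A, c.map ((a : MulAut S) : S ≃* S).toMonoidHom = c := by
    intro a
    refine le_antisymm ?_ fun x hx => ?_
    · rintro _ ⟨x, hx, rfl⟩
      exact hc _ a.2 x hx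
    · exact ⟨(a : MulAut S)⁻¹ x, hc _ (inv_mem a.2) x hx, (a : MulAut S).apply_symm_apply x⟩
  let Qt := S ⧸ c
  let q : S →* S ⧸ c := QuotientGroup.mk' c
  let Z : Subgroup (S ⧸ c) :=
    { carrier := {z | z ∈ Subgroup.center (S ⧸ c) ∧ z ^ p = 1}
      one_mem' := ⟨one_mem _, one_pow _⟩
      mul_mem' := by
        rintro x y ⟨hx, hx'⟩ ⟨hy, hy'⟩
        exact ⟨mul_mem hx hy, by
          rw [Commute.mul_pow (Subgroup.mem_center_iff.1 hy x), hx', hy', one_mul]⟩
      inv_mem' := by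
        rintro x ⟨hx, hx'⟩
        exact ⟨inv_mem hx, by rw [inv_pow, hx', inv_one]⟩ }
  letI : CommGroup Z := { (inferInstance : Group Z) with
    mul_comm := fun x y => Subtype.ext (Subgroup.mem_center_iff.1 y.2.1 x) }
  let act : A → (S ⧸ c ≃* S ⧸ c) := fun a => QuotientGroup.congr c c (a : MulAut S) (hmap a)
  have hact : ∀ (a : A) (x : S), act a (q x) = q ((a : MulAut S) x) := fun a x => rfl
  have hact_mul : ∀ (a b : A) (z : S ⧸ c), act (a * b) z = act a (act b z) := by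
    intro a b z
    obtain ⟨x, rfl⟩ := QuotientGroup.mk'_surjective c z
    simp only [q] at hact
    rw [hact, hact, hact]
    rfl
  have hZ : ∀ (a : A), ∀ z ∈ Z, act a z ∈ Z := by
    rintro a z ⟨hz, hz'⟩
    exact ⟨Subgroup.mem_center_iff.2 fun w => by
      obtain ⟨w, rfl⟩ := (act a).surjective w
      rw [← map_mul, ← map_mul, Subgroup.mem_center_iff.1 hz w], by rw [← map_pow, hz', map_one]⟩
  have hone : ∀ z, act 1 z = z := by
    intro z
    obtain ⟨x, rfl⟩ := QuotientGroup.mk'_surjective c z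
    rfl
  let ρ : A →* MulAut Z :=
    { toFun := fun a =>
        { toFun := fun z => ⟨act a z, hZ a z z.2⟩
          invFun := fun z => ⟨act a⁻¹ z, hZ a⁻¹ z z.2⟩
          left_inv := fun z => Subtype.ext (by
            show act a⁻¹ (act a (z : S ⧸ c)) = _
            rw [← hact_mul, inv_mul_cancel, hone])
          right_inv := fun z => Subtype.ext (by
            show act a (act a⁻¹ (z : S ⧸ c)) = _
            rw [← hact_mul, mul_inv_cancel, hone])
          map_mul' := fun x y => Subtype.ext (map_mul (act a) (x : S ⧸ c) y) }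
      map_one' := MulEquiv.ext fun z => Subtype.ext (hone z)
      map_mul' := fun a b => MulEquiv.ext fun z => Subtype.ext (hact_mul a b z) }
  have hρi : ∀ a : A, (a : MulAut S) ∈ Inn S → ρ a = 1 := by
    rintro a ⟨g, hg⟩
    refine MulEquiv.ext fun z => Subtype.ext ?_
    obtain ⟨z, hz⟩ := z
    obtain ⟨x, rfl⟩ := QuotientGroup.mk'_surjective c z
    show act a (q x) = q x
    rw [hact, ← hg]
    show q (g * x * g⁻¹) = q x
    rw [map_mul, map_mul, map_inv, Subgroup.mem_center_iff.1 hz.1 (q g), mul_inv_cancel_right]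
  haveI : Nontrivial Z := by
    haveI : Nontrivial (S ⧸ c) := QuotientGroup.nontrivial_iff.2 hne
    haveI : Nontrivial (Subgroup.center (S ⧸ c)) := (hS.to_quotient c).center_nontrivial
    obtain ⟨k, hk⟩ := ((hS.to_quotient c).to_subgroup (Subgroup.center (S ⧸ c))).exists_card_eq
    have hdvd : p ∣ Nat.card (Subgroup.center (S ⧸ c)) := by
      rw [hk]
      refine dvd_pow_self p fun h0 => ?_
      rw [h0, pow_zero] at hk
      exact absurd hk (ne_of_gt Finite.one_lt_card)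
    obtain ⟨z, hz⟩ := exists_prime_orderOf_dvd_card' p hdvd
    refine ⟨⟨⟨z, z.2, ?_⟩, 1, fun h => ?_⟩⟩
    · rw [← SubgroupClass.coe_pow, ← hz, pow_orderOf_eq_one]; rfl
    · have h1 : z = 1 := Subtype.ext (congrArg (fun t : Z => (t : S ⧸ c)) h)
      rw [h1, orderOf_one] at hz
      exact hp.out.ne_one hz.symm
  have hc1 : ∀ u ∈ ρ.range, ∀ v ∈ ρ.range, u * v = v * u := by
    rintro _ ⟨a, rfl⟩ _ ⟨b, rfl⟩
    have h := hρi (a * b * a⁻¹ * b⁻¹) (hab a a.2 b b.2)
    rw [map_mul, map_mul, map_mul, map_inv, map_inv, mul_inv_eq_one, mul_inv_eq_iff_eq_mul] at h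
    exact h
  have hc2 : ∀ u ∈ ρ.range, u ^ (p - 1) = 1 := by
    rintro _ ⟨a, rfl⟩
    obtain ⟨h, hh, hh1, i, hi, hai⟩ := hcomp a a.2
    rw [show a = ⟨i, hinn hi⟩ * ⟨h, hh⟩ from Subtype.ext hai, map_mul, hρi ⟨i, hinn hi⟩ hi, one_mul,
      ← map_pow]
    rw [show (⟨h, hh⟩ : A) ^ (p - 1) = 1 from Subtype.ext hh1, map_one]
  obtain ⟨w, hw, heig⟩ := exists_common_eigen (W := Z) (fun z => Subtype.ext z.2.2) ρ.range hc1 hc2
  obtain ⟨x, hx⟩ := QuotientGroup.mk'_surjective c (w : S ⧸ c)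
  refine ⟨x, fun hxc => hw (Subtype.ext ?_), fun a ha y hy => ?_⟩
  · rw [← hx]; exact (QuotientGroup.eq_one_iff x).2 hxc
  · have hle : c ⊔ Subgroup.zpowers x ≤ (c ⊔ Subgroup.zpowers x).comap (a : MulAut S).toMonoidHom := by
      refine sup_le (fun z hz => Subgroup.mem_sup_left (hc a ha z hz)) (Subgroup.zpowers_le.2 ?_)
      obtain ⟨t, ht⟩ := heig (ρ ⟨a, ha⟩) ⟨_, rfl⟩
      have h1 : q (a x) = q (x ^ t) := by
        rw [map_pow, show q x = (w : S ⧸ c) from hx, ← hact ⟨a, ha⟩, show q x = (w : S ⧸ c) from hx]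
        exact congrArg Subtype.val ht
      show a x ∈ c ⊔ Subgroup.zpowers x
      have h2 : (x ^ t)⁻¹ * a x ∈ c := QuotientGroup.eq.1 h1.symm
      rw [← mul_inv_cancel_left (x ^ t) (a x)]
      exact Subgroup.mul_mem _ (Subgroup.mem_sup_right (Subgroup.npow_mem_zpowers x t))
        (Subgroup.mem_sup_left h2)
    exact hle hy

theorem exists_chain (hS : IsPGroup p S) {A : Subgroup (MulAut S)} (hinn : Inn S ≤ A)
    (hcomp : ∀ a ∈ A, ∃ h ∈ A, h ^ (p - 1) = 1 ∧ ∃ i ∈ Inn S, a = i * h)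
    (hab : ∀ a ∈ A, ∀ b ∈ A, a * b * a⁻¹ * b⁻¹ ∈ Inn S) :
    ∀ (r : ℕ) (c₀ : Subgroup S), (∀ a ∈ A, ∀ x ∈ c₀, a x ∈ c₀) → c₀.index ≤ r →
      ∃ (m : ℕ) (c : Fin (m + 1) → Subgroup S), c 0 = c₀ ∧ c (Fin.last m) = ⊤ ∧
        (∀ i, ∀ a ∈ A, ∀ x ∈ c i, a x ∈ c i) ∧
        ∀ i : Fin m, c i.castSucc ≤ c i.succ ∧ ∃ x, c i.succ = c i.castSucc ⊔ Subgroup.zpowers x := by
  intro r
  induction r with
  | zero =>
    intro c₀ _ h
    have := Subgroup.index_ne_zero_of_finite (H := c₀)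
    omega
  | succ r ih =>
    intro c₀ hc₀ h
    by_cases htop : c₀ = ⊤
    · exact ⟨0, fun _ => c₀, rfl, htop, fun _ => hc₀, fun i => i.elim0⟩
    obtain ⟨x, hx, hinv⟩ := exists_step hS hinn hcomp hab hc₀ htop
    have hlt : c₀ < c₀ ⊔ Subgroup.zpowers x :=
      lt_of_le_of_ne le_sup_left fun h' => hx (h' ▸ Subgroup.mem_sup_right (Subgroup.mem_zpowers x))
    have hidx : (c₀ ⊔ Subgroup.zpowers x).index ≤ r := by
      have h1 := Subgroup.index_strictAnti hlt
      omega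
    obtain ⟨m, c, h0, hl, hch, hstep⟩ := ih _ hinv hidx
    refine ⟨m + 1, Fin.cons c₀ c, rfl, ?_, ?_, ?_⟩
    · rw [← Fin.succ_last, Fin.cons_succ, hl]
    · intro i
      induction i using Fin.cases with
      | zero => exact hc₀
      | succ i => rw [Fin.cons_succ]; exact hch i
    · intro i
      induction i using Fin.cases with
      | zero =>
        rw [Fin.castSucc_zero, Fin.cons_zero, Fin.cons_succ, h0]
        exact ⟨le_sup_left, x, rfl⟩
      | succ i => rw [← Fin.succ_castSucc, Fin.cons_succ, Fin.cons_succ]; exact hstep i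

/-- If `S` is normal and `p'`-automorphism groups are abelian of exponent dividing `p - 1`, every
system has a chain. -/
theorem chain_of_normal (hS : IsPGroup p S) (F : FusionSystem S) (hF : F.IsSaturated p)
    (hN : F.IsNormal S)
    (hH : ∀ H : Subgroup (MulAut S), (Nat.card H).Coprime p →
      IsMulCommutative H ∧ ∀ h ∈ H, h ^ (p - 1) = 1) :
    ∃ (m : ℕ) (c : Fin (m + 1) → Subgroup Ω), c 0 = ⊥ ∧ c (Fin.last m) = S ∧
      (∀ i : Fin (m + 1), F.StronglyClosed (c i)) ∧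
      ∀ i : Fin m, c i.castSucc ≤ c i.succ ∧
        ∃ x ∈ S, c i.succ = c i.castSucc ⊔ Subgroup.zpowers x := by
  set A := F.autGroup S
  have hinn : Inn S ≤ A := inn_le_autGroup F le_rfl
  obtain ⟨R, hR⟩ := autGroup_self_sylow hS hF
  haveI hRn : ((Inn S).subgroupOf A).Normal :=
    ⟨fun n hn g => Subgroup.mem_subgroupOf.2 ((inferInstance : (Inn S).Normal).conj_mem _ hn g)⟩
  have hidx : ¬ p ∣ ((Inn S).subgroupOf A).index := by rw [← hR]; exact R.not_dvd_index
  obtain ⟨K, hK⟩ := ((R.2.exists_card_eq))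
  obtain ⟨L, hL⟩ := Subgroup.exists_right_complement'_of_coprime (N := (Inn S).subgroupOf A) (by
    rw [← hR, hK]
    exact Nat.Coprime.pow_left K ((hp.out.coprime_iff_not_dvd).2 R.not_dvd_index))
  set H := L.map A.subtype
  have hHcard : (Nat.card H).Coprime p := by
    rw [Nat.card_congr (L.equivMapOfInjective A.subtype A.subtype_injective).toEquiv.symm,
      ← hL.symm.index_eq_card]
    exact ((hp.out.coprime_iff_not_dvd).2 hidx).symm
  obtain ⟨hHc, hHe⟩ := hH H hHcard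
  have hdec : ∀ a ∈ A, ∃ h ∈ A, h ^ (p - 1) = 1 ∧ ∃ i ∈ Inn S, a = i * h ∧ h ∈ H := by
    intro a ha
    obtain ⟨⟨i, l⟩, hil, -⟩ := hL.existsUnique ⟨a, ha⟩
    refine ⟨((l : A) : MulAut S), (l : A).2, hHe _ ⟨l, l.2, rfl⟩, ((i : A) : MulAut S), i.2, ?_,
      ⟨l, l.2, rfl⟩⟩
    exact (congrArg Subtype.val hil).symm
  have hab : ∀ a ∈ A, ∀ b ∈ A, a * b * a⁻¹ * b⁻¹ ∈ Inn S := by
    intro a ha b hb
    obtain ⟨h, -, -, i, hi, rfl, hhH⟩ := hdec a ha
    obtain ⟨h', -, -, i', hi', rfl, hhH'⟩ := hdec b hb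
    have hn := (inferInstance : (Inn S).Normal)
    rw [← QuotientGroup.eq_one_iff]
    have e1 : ((i : MulAut S) : MulAut S ⧸ Inn S) = 1 := (QuotientGroup.eq_one_iff _).2 hi
    have e2 : ((i' : MulAut S) : MulAut S ⧸ Inn S) = 1 := (QuotientGroup.eq_one_iff _).2 hi'
    simp only [QuotientGroup.mk_mul, QuotientGroup.mk_inv, e1, e2, one_mul]
    have hc' : h * h' = h' * h :=
      congrArg Subtype.val (hHc.is_comm.comm (⟨h, hhH⟩ : H) ⟨h', hhH'⟩)
    rw [← QuotientGroup.mk_mul, hc', QuotientGroup.mk_mul]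
    group
  obtain ⟨m, c, h0, hl, hinv, hstep⟩ := exists_chain hS hinn
    (fun a ha => by obtain ⟨h, hh, hh1, i, hi, hai, -⟩ := hdec a ha; exact ⟨h, hh, hh1, i, hi, hai⟩)
    hab _ ⊥ (fun a _ x hx => by rw [Subgroup.mem_bot] at hx ⊢; rw [hx, map_one]) le_rfl
  refine ⟨m, fun i => (c i).map S.subtype, ?_, ?_, fun i => ⟨Subgroup.map_subtype_le _, ?_⟩,
    fun i => ⟨Subgroup.map_mono (hstep i).1, ?_⟩⟩
  · simp [h0]
  · simp [hl, ← MonoidHom.range_eq_map]
  · intro R' hR' φ hφ x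
    obtain ⟨ψ, hψ, hψe, hψS⟩ := hN.2 R' φ hφ
    have hres := restr_mem F (le_sup_right (a := R')) hψ
    have hrng : (restr (le_sup_right (a := R')) ψ).range = S := by rw [range_restr]; exact hψS
    obtain ⟨s, hs, hsx⟩ := hR' x.2
    refine ⟨_, hinv i _ (toIso_mem_autGroup F hres hrng) s hs, ?_⟩
    show ((toIso F hres hrng s : S) : Ω) = φ x
    rw [toIso_coe, restr_apply, ← hψe x]
    exact congrArg ψ (Subtype.ext hsx)
  · obtain ⟨x, hx⟩ := (hstep i).2
    refine ⟨x, x.2, ?_⟩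
    show (c i.succ).map S.subtype = (c i.castSucc).map S.subtype ⊔ _
    rw [hx, Subgroup.map_sup, MonoidHom.map_zpowers]
    rfl

end Cfsg.Agent.FusionBatch.SuperChain
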