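import Cfsg.Agent.FusionBatch.HeisenbergCore
import Cfsg.Agent.Linear.Orders

/-!
The upper unitriangular subgroup of `SL₃(K)`.
-/

set_option autoImplicit false
set_option maxHeartbeats 800000

open Matrix

open scoped MatrixGroups commutatorElement

namespace Cfsg.Agent.FusionBatch.SLThreeSylow

universe u

variable {K : Type u} [Field K]

/-- The unitriangular matrix with entries `a`, `b`, `c`. -/
def mat (a b c : K) : Matrix (Fin 3) (Fin 3) K := !![1, a, c; 0, 1, b; 0, 0, 1]

def elt (a b c : K) : SL(3, K) :=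
  ⟨mat a b c, by simp [mat, Matrix.det_fin_three]⟩

theorem elt_mul (a b c a' b' c' : K) :
    elt a b c * elt a' b' c' = elt (a + a') (b + b') (c + c' + a * b') := by
  apply Subtype.ext
  show mat a b c * mat a' b' c' = mat _ _ _
  ext i j
  fin_cases i <;> fin_cases j <;> simp [mat, Matrix.mul_apply, Fin.sum_univ_three] <;> ring

theorem elt_one : elt (0 : K) 0 0 = 1 := by
  apply Subtype.ext
  show mat (0 : K) 0 0 = 1
  ext i j
  fin_cases i <;> fin_cases j <;> simp [mat]

theorem elt_inv (a b c : K) : (elt a b c)⁻¹ = elt (-a) (-b) (-c + a * b) := by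
  refine inv_eq_of_mul_eq_one_right ?_
  rw [elt_mul, ← elt_one]
  congr 1 <;> ring

theorem elt_inj {a b c a' b' c' : K} (h : elt a b c = elt a' b' c') : a = a' ∧ b = b' ∧ c = c' := by
  have h' := fun i j => congrFun (congrFun (congrArg Subtype.val h) i) j
  exact ⟨by simpa [elt, mat] using h' 0 1, by simpa [elt, mat] using h' 1 2,
    by simpa [elt, mat] using h' 0 2⟩

/-- The unitriangular subgroup. -/
def uni : Subgroup SL(3, K) where
  carrier := {g | ∃ a b c, g = elt a b c}
  one_mem' := ⟨0, 0, 0, elt_one.symm⟩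
  mul_mem' := by
    rintro _ _ ⟨a, b, c, rfl⟩ ⟨a', b', c', rfl⟩
    exact ⟨_, _, _, elt_mul a b c a' b' c'⟩
  inv_mem' := by
    rintro _ ⟨a, b, c, rfl⟩
    exact ⟨_, _, _, elt_inv a b c⟩

def coord (a b c : K) : uni (K := K) := ⟨elt a b c, a, b, c, rfl⟩

theorem exists_coord (x : uni (K := K)) : ∃ a b c, x = coord a b c := by
  obtain ⟨a, b, c, h⟩ := x.2
  exact ⟨a, b, c, Subtype.ext h⟩

theorem coord_mul (a b c a' b' c' : K) :
    coord a b c * coord a' b' c' = coord (a + a') (b + b') (c + c' + a * b') :=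
  Subtype.ext (elt_mul a b c a' b' c')

theorem coord_inj {a b c a' b' c' : K} (h : coord a b c = coord a' b' c') :
    a = a' ∧ b = b' ∧ c = c' := elt_inj (congrArg Subtype.val h)

theorem commute_iff {a b c a' b' c' : K} :
    Commute (coord a b c) (coord a' b' c') ↔ a * b' = a' * b := by
  rw [commute_iff_eq, coord_mul, coord_mul]
  constructor
  · intro h
    have h3 := (coord_inj h).2.2
    linear_combination h3
  · intro h
    congr 1
    · ring
    · ring
    · linear_combination h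

theorem commutator_coord (a b c a' b' c' : K) :
    ⁅coord a b c, coord a' b' c'⁆ = coord 0 0 (a * b' - a' * b) := by
  rw [commutatorElement_def, mul_inv_eq_iff_eq_mul, mul_inv_eq_iff_eq_mul, coord_mul, coord_mul,
    coord_mul]
  congr 1 <;> ring

theorem mem_center_iff {a b c : K} :
    coord a b c ∈ Subgroup.center (uni (K := K)) ↔ a = 0 ∧ b = 0 := by
  rw [Subgroup.mem_center_iff]
  constructor
  · intro h
    have h1 := commute_iff.1 (h (coord 1 0 0) : Commute (coord 1 0 0) (coord a b c))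
    have h2 := commute_iff.1 (h (coord 0 1 0) : Commute (coord 0 1 0) (coord a b c))
    simp only [mul_zero, zero_mul, one_mul, mul_one] at h1 h2
    exact ⟨h2.symm, h1⟩
  · rintro ⟨rfl, rfl⟩ g
    obtain ⟨x, y, z, rfl⟩ := exists_coord g
    exact (commute_iff.2 (by simp)).eq

theorem uni_good : ∀ {G : Type u} [Group G], (G ≃* uni (K := K)) → Heis.Good G := by
  intro G _ e
  refine Heis.Good.of_equiv e ?_ ?_ ?_ ⟨coord 1 0 0, fun h => one_ne_zero (mem_center_iff.1 h).1⟩
  · intro x y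
    obtain ⟨a, b, c, rfl⟩ := exists_coord x
    obtain ⟨a', b', c', rfl⟩ := exists_coord y
    rw [commutator_coord]
    exact mem_center_iff.2 ⟨rfl, rfl⟩
  · intro x hx u v hu hv
    obtain ⟨a, b, c, rfl⟩ := exists_coord x
    obtain ⟨a₁, b₁, c₁, rfl⟩ := exists_coord u
    obtain ⟨a₂, b₂, c₂, rfl⟩ := exists_coord v
    rw [commute_iff] at hu hv ⊢
    rw [mem_center_iff, not_and_or] at hx
    rcases hx with hx | hx
    · exact mul_left_cancel₀ hx (by linear_combination a₂ * hu - a₁ * hv)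
    · exact mul_left_cancel₀ hx (by linear_combination b₂ * hu - b₁ * hv)
  · intro x hx z hz
    obtain ⟨a, b, c, rfl⟩ := exists_coord x
    obtain ⟨a₁, b₁, c₁, rfl⟩ := exists_coord z
    obtain ⟨rfl, rfl⟩ := mem_center_iff.1 hz
    rw [mem_center_iff, not_and_or] at hx
    rcases hx with hx | hx
    · refine ⟨coord 0 (c₁ / a) 0, ?_⟩
      rw [commutator_coord]
      congr 1
      field_simp
      ring
    · refine ⟨coord (-(c₁ / b)) 0 0, ?_⟩
      rw [commutator_coord]
      congr 1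
      field_simp
      ring

theorem card_uni [Fintype K] : Nat.card (uni (K := K)) = Fintype.card K ^ 3 := by
  have e : K × K × K ≃ uni (K := K) := Equiv.ofBijective (fun v => coord v.1 v.2.1 v.2.2)
    ⟨fun v w h => by
      obtain ⟨h1, h2, h3⟩ := coord_inj h
      exact Prod.ext h1 (Prod.ext h2 h3),
     fun x => by
      obtain ⟨a, b, c, rfl⟩ := exists_coord x
      exact ⟨(a, b, c), rfl⟩⟩
  rw [← Nat.card_congr e]
  simp [Nat.card_prod, Nat.card_eq_fintype_card]
  ring

theorem sylow_equiv_uni [Fintype K] (p : ℕ) [hp : Fact p.Prime] [CharP K p] (T : Sylow p SL(3, K)) :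
    Nonempty (↥(T : Subgroup SL(3, K)) ≃* uni (K := K)) := by
  obtain ⟨n, hn, hq⟩ := FiniteField.card K p
  set q := Fintype.card K with hqdef
  have h1 := Cfsg.Agent.Linear.card_SL_mul (F := K) 3
  rw [Fin.prod_univ_three] at h1
  simp only [Fin.val_zero, Fin.val_one, Fin.val_two, pow_zero, pow_one] at h1
  have hU : IsPGroup p (uni (K := K)) := IsPGroup.of_card (n := n * 3) (by
    rw [card_uni, ← hqdef, hq, pow_mul])
  obtain ⟨P, hP⟩ := hU.exists_le_sylow
  have hPU : (P : Subgroup SL(3, K)) = uni := by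
    refine (Subgroup.eq_of_le_of_card_ge hP ?_).symm
    obtain ⟨k, hk⟩ := P.2.exists_card_eq
    rw [hk, card_uni, ← hqdef, hq, ← pow_mul]
    refine Nat.pow_le_pow_right hp.out.pos ?_
    by_contra hlt
    have hd : p ^ ((n : ℕ) * 3 + 1) ∣ Nat.card SL(3, K) :=
      (pow_dvd_pow p (by omega)).trans (hk ▸ Subgroup.card_subgroup_dvd_card _)
    have hd2 : p ^ ((n : ℕ) * 3 + 1) ∣ (q ^ 3 - 1) * (q ^ 3 - q) * (q ^ 3 - q ^ 2) := by
      rw [← h1]; exact dvd_mul_of_dvd_right hd _
    have hq1 : 2 ≤ q := Fintype.one_lt_card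
    have hfac : (q ^ 3 - 1) * (q ^ 3 - q) * (q ^ 3 - q ^ 2) =
        q ^ 3 * ((q ^ 3 - 1) * (q ^ 2 - 1) * (q - 1)) := by
      rw [show q ^ 3 - q = q * (q ^ 2 - 1) by rw [Nat.mul_sub, mul_one, ← pow_succ'],
        show q ^ 3 - q ^ 2 = q ^ 2 * (q - 1) by rw [Nat.mul_sub, mul_one, ← pow_succ]]
      ring
    rw [hfac, hq, ← pow_mul, pow_succ] at hd2
    have hd3 := Nat.dvd_of_mul_dvd_mul_left (pow_pos hp.out.pos _) hd2
    have hndvd : ∀ m : ℕ, 0 < m → ¬ p ∣ (p ^ (n : ℕ)) ^ m - 1 := by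
      intro m hm hdvd
      have h2 : p ∣ (p ^ (n : ℕ)) ^ m := dvd_pow (dvd_pow_self p n.ne_zero) hm.ne'
      have h3 : 1 ≤ (p ^ (n : ℕ)) ^ m := Nat.one_le_pow _ _ (pow_pos hp.out.pos _)
      have h4 := Nat.dvd_sub h2 hdvd
      rw [show (p ^ (n : ℕ)) ^ m - ((p ^ (n : ℕ)) ^ m - 1) = 1 by omega] at h4
      exact hp.out.not_dvd_one h4
    rcases hp.out.dvd_mul.1 hd3 with h | h
    · rcases hp.out.dvd_mul.1 h with h | h
      · exact hndvd 3 (by norm_num) (by rw [← pow_mul]; exact h)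
      · exact hndvd 2 (by norm_num) (by rw [← pow_mul] at h ⊢; exact h)
    · exact hndvd 1 one_pos (by rwa [pow_one])
  exact ⟨(T.equiv P).trans (MulEquiv.subgroupCongr hPU)⟩

end Cfsg.Agent.FusionBatch.SLThreeSylow
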